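import Cfsg.Agent.CoThreeStd.SuzP.Data

/-!
# The group `P = <y p q r s b c t d>` (pattern `Suz:2` of S1750)

`y p q r s b` are the generators of `M₁₂`, `c` is an outer automorphism of `M₁₂`, `t` commutes with all of them,
`d` has order three, is inverted by `p q r s` and `t^d = t c`, `(t c)^d = t c y`; the last relator is the relation
in the normaliser of the elementary abelian group `<t, y, c, p r, q p r q>` of order 32.
-/

set_option autoImplicit false

namespace Cfsg.Agent.CoThreeStd.SuzP.Pres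

open Cfsg.Agent.CoThreeStd.SuzP.Data

/-- the relators -/
def rels : List (List Lt) := [
  [.y, .y],
  [.p, .p],
  [.q, .q],
  [.r, .r],
  [.s, .s],
  [.b, .b],
  [.c, .c],
  [.t, .t],
  [.d, .D],
  [.D, .d],
  [.p, .q, .p, .q, .p, .q],
  [.q, .r, .q, .r, .q, .r],
  [.r, .s, .r, .s, .r, .s],
  [.p, .r, .p, .r],
  [.p, .s, .p, .s],
  [.q, .s, .q, .s],
  [.y, .p, .y, .p],
  [.y, .q, .y, .q],
  [.y, .r, .y, .r],
  [.y, .s, .y, .s],
  [.b, .q, .b, .q, .b, .q],
  [.b, .r, .b, .r, .b, .r],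
  [.b, .p, .q, .b, .p, .q, .b, .p, .q],
  [.b, .r, .s, .b, .r, .s, .b, .r, .s],
  [.b, .p, .r, .b, .q, .s, .b, .p, .r, .b, .s, .q],
  [.b, .p, .s, .y, .b, .s, .p, .y, .b, .y, .p, .s],
  [.b, .p, .y, .b, .q, .y, .b, .p, .y, .b, .y, .q],
  [.c, .y, .c, .y],
  [.c, .p, .c, .p, .y],
  [.c, .q, .c, .q, .y],
  [.c, .r, .c, .r, .y],
  [.c, .s, .c, .s, .y],
  [.c, .b, .c, .s, .p, .b, .s, .p],
  [.t, .y, .t, .y],
  [.t, .p, .t, .p],
  [.t, .q, .t, .q],
  [.t, .r, .t, .r],
  [.t, .s, .t, .s],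
  [.t, .b, .t, .b],
  [.t, .c, .t, .c],
  [.d, .d, .d],
  [.D, .t, .d, .c, .t],
  [.D, .t, .c, .d, .y, .c, .t],
  [.p, .d, .p, .d],
  [.q, .d, .q, .d],
  [.r, .d, .r, .d],
  [.s, .d, .s, .d],
  [.D, .s, .b, .y, .p, .r, .b, .s, .d, .q, .s, .b, .y, .p, .r, .b, .s, .d, .q, .s, .b, .y, .p, .r, .b, .s, .q]]

/-- the relators in the free group -/
def relSet : Set (FreeGroup Lt) := {r | ∃ w ∈ rels, r = (w.map FreeGroup.of).prod}

/-- the presented group -/
abbrev P : Type := PresentedGroup relSet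

/-- a generator -/
def ge (x : Lt) : P := PresentedGroup.of x

/-- a word -/
def wd (w : List Lt) : P := (w.map ge).prod

theorem wd_nil : wd [] = 1 := rfl

theorem wd_cons (x : Lt) (w : List Lt) : wd (x :: w) = ge x * wd w := by
  simp [wd]

theorem wd_append (w w' : List Lt) : wd (w ++ w') = wd w * wd w' := by
  simp [wd]

theorem mk_word (w : List Lt) : PresentedGroup.mk relSet (w.map FreeGroup.of).prod = wd w := by
  rw [map_list_prod, List.map_map]; rfl

theorem wd_rel {w : List Lt} (h : w ∈ rels) : wd w = 1 := by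
  rw [← mk_word]
  exact PresentedGroup.one_of_mem ⟨w, h, rfl⟩

variable {K : Type*} [Group K]

theorem lift_word (h : Lt → K) (w : List Lt) : FreeGroup.lift h (w.map FreeGroup.of).prod = (w.map h).prod := by
  rw [map_list_prod, List.map_map]
  congr 1
  apply List.map_congr_left
  intro x _
  simp

/-- the universal property -/
def toHom (h : Lt → K) (hr : ∀ w ∈ rels, (w.map h).prod = 1) : P →* K :=
  PresentedGroup.toGroup (f := h) (by
    rintro r ⟨w, hw, rfl⟩
    rw [lift_word]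
    exact hr w hw)

theorem toHom_ge (h : Lt → K) (hr : ∀ w ∈ rels, (w.map h).prod = 1) (x : Lt) : toHom h hr (ge x) = h x :=
  PresentedGroup.toGroup.of _

theorem toHom_wd (h : Lt → K) (hr : ∀ w ∈ rels, (w.map h).prod = 1) (w : List Lt) :
    toHom h hr (wd w) = (w.map h).prod := by
  rw [wd, map_list_prod, List.map_map]
  congr 1
  apply List.map_congr_left
  intro x _
  exact toHom_ge h hr x

theorem closure_ge : Subgroup.closure (Set.range ge) = ⊤ := PresentedGroup.closure_range_of _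

theorem range_toHom (h : Lt → K) (hr : ∀ w ∈ rels, (w.map h).prod = 1) :
    (toHom h hr).range = Subgroup.closure (Set.range h) := by
  rw [MonoidHom.range_eq_map, ← closure_ge, MonoidHom.map_closure]
  congr 1
  ext k
  constructor
  · rintro ⟨_, ⟨x, rfl⟩, rfl⟩
    exact ⟨x, (toHom_ge h hr x).symm⟩
  · rintro ⟨x, rfl⟩
    exact ⟨ge x, ⟨x, rfl⟩, toHom_ge h hr x⟩

end Cfsg.Agent.CoThreeStd.SuzP.Pres
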