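import Cfsg.Agent.CoThreeStd.SuzP.CollBase
import Cfsg.Agent.CoThreeStd.SuzP.CollTW

/-!
# The collapse for `e = t y v₁ v₂`
-/

set_option autoImplicit false
set_option maxRecDepth 100000

namespace Cfsg.Agent.CoThreeStd.SuzP.CollTWEnd

open Cfsg.Agent.CoThreeStd.SuzP.CollTW Cfsg.Agent.CoThreeStd.SuzP.CollTWData

/-- `e = typrqprq` -/
theorem c_eq_one {K : Type*} [Group K] {g : Data.Lt → K} (hb : CollBase.Base g)
    (h : ((CollBase.r0 ++ ([.t, .y, .p, .r, .q, .p, .r, .q] : List Data.Lt)).map g).prod = 1) : g .c = 1 :=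
  CollBase.close hb C (by intro x hx; interval_cases x <;> rfl) h (L := rels) (by decide +kernel)
    (fun H f h1 h2 h3 => mem H f h1 h2 h3)

end Cfsg.Agent.CoThreeStd.SuzP.CollTWEnd
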