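import Cfsg.Agent.CoThreeStd.SuzP.CollG1
import Cfsg.Agent.CoThreeStd.SuzP.CollG2
import Cfsg.Agent.CoThreeStd.SuzP.CollG3
import Cfsg.Agent.CoThreeStd.SuzP.CollG4
import Cfsg.Agent.CoThreeStd.SuzP.CollG5
import Cfsg.Agent.CoThreeStd.SuzP.CollTWEnd

/-!
# `r0 = 1`

If the letters satisfy the relators of `P` without the last one `r0`, `c ≠ 1`, and `r0` lies in
`E₃₂ = <t, y, c, p r, q p r q>`, then `r0 = 1`.
-/

set_option autoImplicit false
set_option maxRecDepth 100000

namespace Cfsg.Agent.CoThreeStd.SuzP.CollMain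

open Cfsg.Agent.CoThreeStd.SuzP.Data Cfsg.Agent.CoThreeStd.SuzP.Pres Cfsg.Agent.CoThreeStd.SuzP.CollBase

variable {K : Type*} [Group K]

theorem comm_closure {S : Set K} {a : K} (hc : ∀ s ∈ S, a * s = s * a) :
    ∀ s ∈ Subgroup.closure S, a * s = s * a := by
  have h : Subgroup.closure S ≤ Subgroup.centralizer ({a} : Set K) := by
    rw [Subgroup.closure_le]
    intro s hs
    rw [SetLike.mem_coe, Subgroup.mem_centralizer_singleton_iff]
    exact (hc s hs).symm
  intro s hs
  exact (Subgroup.mem_centralizer_singleton_iff.1 (h hs)).symm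

theorem mem_insert {S : Set K} {a x : K} (ha : a * a = 1) (hc : ∀ s ∈ S, a * s = s * a)
    (hx : x ∈ Subgroup.closure (insert a S)) : ∃ y ∈ Subgroup.closure S, x = y ∨ x = a * y := by
  have hc' := comm_closure hc
  induction hx using Subgroup.closure_induction with
  | mem x hx =>
    rcases hx with rfl | hx
    · exact ⟨1, one_mem _, Or.inr (mul_one _).symm⟩
    · exact ⟨x, Subgroup.subset_closure hx, Or.inl rfl⟩
  | one => exact ⟨1, one_mem _, Or.inl rfl⟩
  | mul x z _ _ hx hz =>
    obtain ⟨y, hy, h1⟩ := hx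
    obtain ⟨w, hw, h2⟩ := hz
    rcases h1 with rfl | rfl <;> rcases h2 with rfl | rfl
    · exact ⟨_, mul_mem hy hw, Or.inl rfl⟩
    · refine ⟨_, mul_mem hy hw, Or.inr ?_⟩
      rw [← mul_assoc, ← hc' _ hy, mul_assoc]
    · exact ⟨_, mul_mem hy hw, Or.inr (mul_assoc _ _ _)⟩
    · refine ⟨_, mul_mem hy hw, Or.inl ?_⟩
      rw [hc' y hy, mul_assoc, ← mul_assoc a a w, ha, one_mul]
  | inv x _ hx =>
    obtain ⟨y, hy, h1⟩ := hx
    rcases h1 with rfl | rfl
    · exact ⟨_, inv_mem hy, Or.inl rfl⟩
    · refine ⟨_, inv_mem hy, Or.inr ?_⟩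
      rw [mul_inv_rev, inv_eq_of_mul_eq_one_left ha, hc' _ (inv_mem hy)]

theorem sq_insert {S : Set K} {a : K} (ha : a * a = 1) (hc : ∀ s ∈ S, a * s = s * a)
    (hS : ∀ x ∈ Subgroup.closure S, x * x = 1) : ∀ x ∈ Subgroup.closure (insert a S), x * x = 1 := by
  intro x hx
  obtain ⟨y, hy, h | h⟩ := mem_insert ha hc hx
  · rw [h]; exact hS y hy
  · rw [h]
    calc a * y * (a * y) = a * (y * a) * y := by simp only [mul_assoc]
      _ = (a * a) * (y * y) := by rw [← comm_closure hc y hy]; simp only [mul_assoc]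
      _ = 1 := by rw [ha, hS y hy, one_mul]

variable {g : Lt → K}

section rel

variable (hb : Base g)
include hb

theorem c_mul {x : Lt} (h : [.c, x, .c, x, .y] ∈ rels.dropLast := by decide +kernel)
    (hx : [x, x] ∈ rels.dropLast := by decide +kernel) : g .c * g x = g .y * g x * g .c := by
  have h1 := hb _ h
  have hc := sq hb (x := .c)
  have hy := sq hb (x := .y)
  have hxx := sq hb hx
  simp only [List.map_cons, List.map_nil, List.prod_cons, List.prod_nil, mul_one] at h1
  calc g .c * g x = g .c * g x * (g .c * (g x * g .y) * (g .y * g x) * g .c) := by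
        have : g .c * (g x * g .y) * (g .y * g x) * g .c = 1 := by
          calc g .c * (g x * g .y) * (g .y * g x) * g .c
              = g .c * (g x * (g .y * g .y) * g x) * g .c := by simp only [mul_assoc]
            _ = 1 := by rw [hy, mul_one, hxx, mul_one, hc]
        rw [this, mul_one]
    _ = (g .c * (g x * (g .c * (g x * g .y)))) * (g .y * g x) * g .c := by simp only [mul_assoc]
    _ = g .y * g x * g .c := by rw [h1, one_mul]

theorem v1_sq : (g .p * g .r) * (g .p * g .r) = 1 := by
  have h1 := comm hb (x := .p) (y := .r)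
  calc (g .p * g .r) * (g .p * g .r) = g .p * (g .r * g .p) * g .r := by simp only [mul_assoc]
    _ = (g .p * g .p) * (g .r * g .r) := by rw [← h1]; simp only [mul_assoc]
    _ = 1 := by rw [sq hb (x := .p), sq hb (x := .r), mul_one]

theorem v2_sq : (g .q * g .p * g .r * g .q) * (g .q * g .p * g .r * g .q) = 1 := by
  calc (g .q * g .p * g .r * g .q) * (g .q * g .p * g .r * g .q)
      = g .q * (g .p * g .r) * (g .q * g .q) * (g .p * g .r) * g .q := by simp only [mul_assoc]
    _ = g .q * ((g .p * g .r) * (g .p * g .r)) * g .q := by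
        rw [sq hb (x := .q), mul_one]; simp only [mul_assoc]
    _ = 1 := by rw [v1_sq hb, mul_one, sq hb (x := .q)]

theorem braid {x y : Lt} (h : [x, y, x, y, x, y] ∈ rels.dropLast := by decide +kernel)
    (hx : [x, x] ∈ rels.dropLast := by decide +kernel) (hy : [y, y] ∈ rels.dropLast := by decide +kernel) :
    g x * g y * g x = g y * g x * g y := by
  have h1 := hb _ h
  have hxx := sq hb hx
  have hyy := sq hb hy
  simp only [List.map_cons, List.map_nil, List.prod_cons, List.prod_nil, mul_one] at h1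
  have h2 : (g x * g y * g x) * (g y * g x * g y) = 1 := by rw [← h1]; simp only [mul_assoc]
  have h3 : (g y * g x * g y) * (g y * g x * g y) = 1 := by
    calc (g y * g x * g y) * (g y * g x * g y) = g y * g x * (g y * g y) * g x * g y := by simp only [mul_assoc]
      _ = g y * (g x * g x) * g y := by rw [hyy, mul_one]; simp only [mul_assoc]
      _ = 1 := by rw [hxx, mul_one, hyy]
  exact mul_right_cancel (h2.trans h3.symm)

theorem v1_v2 : (g .p * g .r) * (g .q * g .p * g .r * g .q) = (g .q * g .p * g .r * g .q) * (g .p * g .r) := by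
  have h1 := comm hb (x := .p) (y := .r)
  have h2 := braid hb (x := .p) (y := .q)
  have h3 := braid hb (x := .q) (y := .r)
  have rr := sq hb (x := .r)
  have pp := sq hb (x := .p)
  calc (g .p * g .r) * (g .q * g .p * g .r * g .q)
      = g .r * (g .p * g .q * g .p) * g .r * g .q := by rw [h1]; simp only [mul_assoc]
    _ = (g .r * g .q * g .p) * (g .q * g .r * g .q) := by rw [h2]; simp only [mul_assoc]
    _ = (g .r * g .q * g .p) * (g .r * g .q * g .r) := by rw [h3]
    _ = (g .r * g .q) * (g .p * g .r) * g .q * g .r := by simp only [mul_assoc]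
    _ = (g .r * g .q * g .r) * g .p * g .q * g .r := by rw [h1]; simp only [mul_assoc]
    _ = (g .q * g .r * g .q) * g .p * g .q * g .r := by rw [h3]
    _ = g .q * g .r * (g .q * g .p * g .q) * g .r := by simp only [mul_assoc]
    _ = g .q * g .r * (g .p * g .q * g .p) * g .r := by rw [h2]
    _ = g .q * (g .r * g .p) * g .q * (g .p * g .r) := by simp only [mul_assoc]
    _ = (g .q * g .p * g .r * g .q) * (g .p * g .r) := by rw [← h1]; simp only [mul_assoc]

theorem c_v1 : g .c * (g .p * g .r) = (g .p * g .r) * g .c := by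
  have hp := c_mul hb (x := .p)
  have hr := c_mul hb (x := .r)
  have yp := comm hb (x := .y) (y := .p)
  have yy := sq hb (x := .y)
  calc g .c * (g .p * g .r) = (g .c * g .p) * g .r := by rw [mul_assoc]
    _ = (g .y * g .p) * (g .c * g .r) := by rw [hp]; simp only [mul_assoc]
    _ = (g .p * g .y) * (g .y * g .r * g .c) := by rw [hr, yp]
    _ = g .p * (g .y * g .y) * g .r * g .c := by simp only [mul_assoc]
    _ = (g .p * g .r) * g .c := by rw [yy, mul_one]

theorem c_v2 : g .c * (g .q * g .p * g .r * g .q) = (g .q * g .p * g .r * g .q) * g .c := by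
  have hq := c_mul hb (x := .q)
  have h1 := c_v1 hb
  have yq := comm hb (x := .y) (y := .q)
  have yp := comm hb (x := .y) (y := .p)
  have yr := comm hb (x := .y) (y := .r)
  have yy := sq hb (x := .y)
  calc g .c * (g .q * g .p * g .r * g .q) = (g .c * g .q) * (g .p * g .r) * g .q := by simp only [mul_assoc]
    _ = (g .y * g .q) * (g .c * (g .p * g .r)) * g .q := by rw [hq]; simp only [mul_assoc]
    _ = (g .y * g .q) * (g .p * g .r) * (g .c * g .q) := by rw [h1]; simp only [mul_assoc]
    _ = g .q * g .y * g .p * g .r * (g .y * g .q * g .c) := by rw [hq, yq]; simp only [mul_assoc]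
    _ = g .q * (g .y * g .p) * (g .r * g .y) * g .q * g .c := by simp only [mul_assoc]
    _ = g .q * g .p * (g .y * g .y) * g .r * g .q * g .c := by rw [← yr, yp]; simp only [mul_assoc]
    _ = (g .q * g .p * g .r * g .q) * g .c := by rw [yy, mul_one]

omit hb in
theorem comm_v1 {x : Lt} (h1 : g x * g .p = g .p * g x) (h2 : g x * g .r = g .r * g x) :
    g x * (g .p * g .r) = (g .p * g .r) * g x := by
  rw [← mul_assoc, h1, mul_assoc, h2, mul_assoc]

omit hb in
theorem comm_v2 {x : Lt} (h1 : g x * g .p = g .p * g x) (h2 : g x * g .r = g .r * g x)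
    (h3 : g x * g .q = g .q * g x) :
    g x * (g .q * g .p * g .r * g .q) = (g .q * g .p * g .r * g .q) * g x := by
  calc g x * (g .q * g .p * g .r * g .q) = (g x * g .q) * g .p * g .r * g .q := by simp only [mul_assoc]
    _ = g .q * (g x * g .p) * g .r * g .q := by rw [h3]; simp only [mul_assoc]
    _ = g .q * g .p * (g x * g .r) * g .q := by rw [h1]; simp only [mul_assoc]
    _ = g .q * g .p * g .r * (g x * g .q) := by rw [h2]; simp only [mul_assoc]
    _ = _ := by rw [h3]; simp only [mul_assoc]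

theorem r0_eq_one (hne : g .c ≠ 1)
    (hE : (r0.map g).prod ∈ Subgroup.closure
      ({g .t, g .y, g .c, g .p * g .r, g .q * g .p * g .r * g .q} : Set K)) : (r0.map g).prod = 1 := by
  have ty := comm hb (x := .t) (y := .y)
  have tc := comm hb (x := .t) (y := .c)
  have tp := comm hb (x := .t) (y := .p)
  have tq := comm hb (x := .t) (y := .q)
  have tr := comm hb (x := .t) (y := .r)
  have cy := comm hb (x := .c) (y := .y)
  have yp := comm hb (x := .y) (y := .p)
  have yq := comm hb (x := .y) (y := .q)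
  have yr := comm hb (x := .y) (y := .r)
  have hcT : ∀ s ∈ ({g .y, g .c, g .p * g .r, g .q * g .p * g .r * g .q} : Set K), g .t * s = s * g .t := by
    intro s hs
    simp only [Set.mem_insert_iff, Set.mem_singleton_iff] at hs
    rcases hs with rfl | rfl | rfl | rfl
    · exact ty
    · exact tc
    · exact comm_v1 tp tr
    · exact comm_v2 tp tr tq
  have hcY : ∀ s ∈ ({g .c, g .p * g .r, g .q * g .p * g .r * g .q} : Set K), g .y * s = s * g .y := by
    intro s hs
    simp only [Set.mem_insert_iff, Set.mem_singleton_iff] at hs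
    rcases hs with rfl | rfl | rfl
    · exact cy.symm
    · exact comm_v1 yp yr
    · exact comm_v2 yp yr yq
  have hcC : ∀ s ∈ ({g .p * g .r, g .q * g .p * g .r * g .q} : Set K), g .c * s = s * g .c := by
    intro s hs
    simp only [Set.mem_insert_iff, Set.mem_singleton_iff] at hs
    rcases hs with rfl | rfl
    · exact c_v1 hb
    · exact c_v2 hb
  have hcV : ∀ s ∈ ({g .q * g .p * g .r * g .q} : Set K), (g .p * g .r) * s = s * (g .p * g .r) := by
    intro s hs
    rw [Set.mem_singleton_iff] at hs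
    rw [hs]
    exact v1_v2 hb
  have h5 : ∀ s ∈ (∅ : Set K), (g .q * g .p * g .r * g .q) * s = s * (g .q * g .p * g .r * g .q) :=
    fun s hs => absurd hs (Set.notMem_empty s)
  have hbot : ∀ x ∈ Subgroup.closure (∅ : Set K), x = 1 := by
    intro x hx
    rwa [Subgroup.closure_empty, Subgroup.mem_bot] at hx
  have hins : ({g .q * g .p * g .r * g .q} : Set K) = insert (g .q * g .p * g .r * g .q) ∅ := by
    rw [insert_empty_eq]
  have hsq : ∀ x ∈ Subgroup.closure ({g .t, g .y, g .c, g .p * g .r, g .q * g .p * g .r * g .q} : Set K),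
      x * x = 1 := by
    refine sq_insert (sq hb) hcT (sq_insert (sq hb) hcY (sq_insert (sq hb) hcC (sq_insert (v1_sq hb) hcV ?_)))
    rw [hins]
    refine sq_insert (v2_sq hb) h5 ?_
    intro x hx
    rw [hbot x hx, one_mul]
  have hR := hsq _ hE
  obtain ⟨x1, h1, e1⟩ := mem_insert (sq hb) hcT hE
  obtain ⟨x2, h2, e2⟩ := mem_insert (sq hb) hcY h1
  obtain ⟨x3, h3, e3⟩ := mem_insert (sq hb) hcC h2
  obtain ⟨x4, h4, e4⟩ := mem_insert (v1_sq hb) hcV h3
  rw [hins] at h4
  obtain ⟨x5, h6, e5⟩ := mem_insert (v2_sq hb) h5 h4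
  have e6 := hbot x5 h6
  have key : ∀ w : List Lt, (w.map g).prod = (r0.map g).prod → ((r0 ++ w).map g).prod = 1 := by
    intro w hw
    rw [List.map_append, List.prod_append, hw]
    exact hR
  by_contra h7
  apply hne
  rw [e6, mul_one] at e5
  rcases e1 with e1 | e1 <;> rcases e2 with e2 | e2 <;> rcases e3 with e3 | e3 <;> rcases e4 with e4 | e4 <;>
    rcases e5 with e5 | e5 <;> rw [e5] at e4 <;> rw [e4] at e3 <;> rw [e3] at e2 <;> rw [e2] at e1
  · exact absurd e1 h7
  · exact Coll16.c_eq_one hb (prod_r16 hb (key [.q, .p, .r, .q] (by rw [e1]; simp [mul_assoc])))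
  · exact Coll08.c_eq_one hb (key [.p, .r] (by rw [e1]; simp [mul_assoc]))
  · exact Coll24.c_eq_one hb (key [.p, .r, .q, .p, .r, .q] (by rw [e1]; simp [mul_assoc]))
  · exact Coll04.c_eq_one hb (key [.c] (by rw [e1]; simp [mul_assoc]))
  · exact Coll20.c_eq_one hb (key [.c, .q, .p, .r, .q] (by rw [e1]; simp [mul_assoc]))
  · exact Coll12.c_eq_one hb (key [.c, .p, .r] (by rw [e1]; simp [mul_assoc]))
  · exact Coll28.c_eq_one hb (key [.c, .p, .r, .q, .p, .r, .q] (by rw [e1]; simp [mul_assoc]))
  · exact Coll02.c_eq_one hb (key [.y] (by rw [e1]; simp [mul_assoc]))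
  · exact Coll18.c_eq_one hb (key [.y, .q, .p, .r, .q] (by rw [e1]; simp [mul_assoc]))
  · exact Coll10.c_eq_one hb (key [.y, .p, .r] (by rw [e1]; simp [mul_assoc]))
  · exact Coll26.c_eq_one hb (key [.y, .p, .r, .q, .p, .r, .q] (by rw [e1]; simp [mul_assoc]))
  · exact Coll06.c_eq_one hb (key [.y, .c] (by rw [e1]; simp [mul_assoc]))
  · exact Coll22.c_eq_one hb (key [.y, .c, .q, .p, .r, .q] (by rw [e1]; simp [mul_assoc]))
  · exact Coll14.c_eq_one hb (key [.y, .c, .p, .r] (by rw [e1]; simp [mul_assoc]))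
  · exact Coll30.c_eq_one hb (key [.y, .c, .p, .r, .q, .p, .r, .q] (by rw [e1]; simp [mul_assoc]))
  · exact Coll01.c_eq_one hb (key [.t] (by rw [e1]; simp [mul_assoc]))
  · exact Coll17.c_eq_one hb (key [.t, .q, .p, .r, .q] (by rw [e1]; simp [mul_assoc]))
  · exact Coll09.c_eq_one hb (key [.t, .p, .r] (by rw [e1]; simp [mul_assoc]))
  · exact Coll25.c_eq_one hb (key [.t, .p, .r, .q, .p, .r, .q] (by rw [e1]; simp [mul_assoc]))
  · exact Coll05.c_eq_one hb (key [.t, .c] (by rw [e1]; simp [mul_assoc]))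
  · exact Coll21.c_eq_one hb (key [.t, .c, .q, .p, .r, .q] (by rw [e1]; simp [mul_assoc]))
  · exact Coll13.c_eq_one hb (key [.t, .c, .p, .r] (by rw [e1]; simp [mul_assoc]))
  · exact Coll29.c_eq_one hb (key [.t, .c, .p, .r, .q, .p, .r, .q] (by rw [e1]; simp [mul_assoc]))
  · exact Coll03.c_eq_one hb (key [.t, .y] (by rw [e1]; simp [mul_assoc]))
  · exact Coll19.c_eq_one hb (key [.t, .y, .q, .p, .r, .q] (by rw [e1]; simp [mul_assoc]))
  · exact Coll11.c_eq_one hb (key [.t, .y, .p, .r] (by rw [e1]; simp [mul_assoc]))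
  · exact CollTWEnd.c_eq_one hb (key [.t, .y, .p, .r, .q, .p, .r, .q] (by rw [e1]; simp [mul_assoc]))
  · exact Coll07.c_eq_one hb (key [.t, .y, .c] (by rw [e1]; simp [mul_assoc]))
  · exact Coll23.c_eq_one hb (key [.t, .y, .c, .q, .p, .r, .q] (by rw [e1]; simp [mul_assoc]))
  · exact Coll15.c_eq_one hb (key [.t, .y, .c, .p, .r] (by rw [e1]; simp [mul_assoc]))
  · exact Coll31.c_eq_one hb (key [.t, .y, .c, .p, .r, .q, .p, .r, .q] (by rw [e1]; simp [mul_assoc]))

/-- All relators of `P` hold. -/
theorem rels_ok (hne : g .c ≠ 1)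
    (hE : (r0.map g).prod ∈ Subgroup.closure
      ({g .t, g .y, g .c, g .p * g .r, g .q * g .p * g .r * g .q} : Set K)) : ∀ w ∈ rels, (w.map g).prod = 1 := by
  intro w hw
  have h1 : rels = rels.dropLast ++ [r0] := by decide +kernel
  rw [h1, List.mem_append, List.mem_singleton] at hw
  rcases hw with hw | rfl
  · exact hb w hw
  · exact r0_eq_one hb hne hE

end rel

end Cfsg.Agent.CoThreeStd.SuzP.CollMain
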