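import Cfsg.Agent.CoThreeStd.OutTRel
import Cfsg.Agent.CoThreeStd.SuzU.Base

/-!
# S1750, pattern P3 (`Suz:2`): the additional relator `r1`

`n = s b y p r b s`, `x = b q s b`, `k = q p n`, `a = t k k c n d n d`.  If `a² = 1`, `a t a = t p r` and `a`
commutes with `y, p, r, c, k`, then `a` commutes with `x` (`x_comm`): `w = x (a x a)` lies in `C_G(t)` and commutes
with `y, p, r, k c`, so that `w ∈ ⟨t, p r⟩`; `x k` has order three, so `w = 1`.
-/

set_option autoImplicit false

namespace Cfsg.Agent.CoThreeStd.SuzP.ROne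

open Cfsg.Agent.CoThreeStd.MTwelve hiding cj
open Cfsg.Agent.CoThreeStd.OutAut Cfsg.Agent.CoThreeStd.OutCtx Cfsg.Agent.CoThreeStd.OutT
open Cfsg.Agent.CoThreeStd.SuzP.Data (Lt)
open Cfsg.Agent.CoThreeStd.SuzU (r1)

/-- `k = q p n` -/
abbrev kk : H := wd [2, 1, 4, 5, 0, 1, 3, 5, 4]

/-- `x = b q s b` -/
abbrev xx : H := wd [5, 2, 4, 5]

theorem xx_sq : xx * xx = 1 := by
  rw [xx, ← wd_append, ← wd_nil]
  exact wd_eq (by decide +kernel)

theorem xx_pr : xx * (p * r) = p * r * xx := by
  rw [xx, ← wd_pr, ← wd_append, ← wd_append]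
  exact wd_eq (by decide +kernel)

theorem xx_y : xx * (y * xx) = p * (kk * (y * kk)) := by
  rw [xx, kk, ← wd_y, ← wd_p, ← wd_append, ← wd_append, ← wd_append, ← wd_append, ← wd_append]
  exact wd_eq (by decide +kernel)

theorem xx_p : xx * (p * xx) = p * (kk * (y * (p * kk))) := by
  rw [xx, kk, ← wd_y, ← wd_p, ← wd_append, ← wd_append, ← wd_append, ← wd_append, ← wd_append, ← wd_append]
  exact wd_eq (by decide +kernel)

theorem xx_r : xx * (r * xx) = p * (kk * (y * (r * kk))) := by
  rw [xx, kk, ← wd_y, ← wd_p, ← wd_r, ← wd_append, ← wd_append, ← wd_append, ← wd_append, ← wd_append,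
    ← wd_append]
  exact wd_eq (by decide +kernel)

theorem xx_k : xx * (kk * alpha xx) = kk := by
  rw [xx, kk, alpha_wd, ← wd_append, ← wd_append]
  exact wd_eq (by decide +kernel)

theorem xk_three : xx * (kk * (xx * (kk * (xx * kk)))) = 1 := by
  rw [xx, kk, ← wd_append, ← wd_append, ← wd_append, ← wd_append, ← wd_append, ← wd_nil]
  exact wd_eq (by decide +kernel)

theorem xx_kk : y * ((kk * kk)⁻¹ * (xx * (kk * kk * (y * xx)))) = 1 := by
  rw [xx, kk, ← wd_y, ← wd_append, wd_reverse, ← wd_append, ← wd_append, ← wd_append, ← wd_append, ← wd_append,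
    ← wd_nil]
  exact wd_eq (by decide +kernel)

theorem kk_pr : p * r * kk = kk * (p * r) := by
  rw [kk, ← wd_pr, ← wd_append, ← wd_append]
  exact wd_eq (by decide +kernel)

/-! ### the centralizer -/

theorem perm_cases : ∀ σ : Equiv.Perm (Fin 5), σ * Equiv.swap 0 1 = Equiv.swap 0 1 * σ →
    σ * Equiv.swap 2 3 = Equiv.swap 2 3 * σ →
    σ = 1 ∨ σ = Equiv.swap 0 1 ∨ σ = Equiv.swap 2 3 ∨ σ = Equiv.swap 0 1 * Equiv.swap 2 3 := by
  decide +kernel

theorem cent_H {m : H} (h1 : m * y = y * m) (h2 : m * p = p * m) (h3 : m * r = r * m)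
    (h4 : m * kk = kk * alpha m) : m = 1 ∨ m = p * r := by
  obtain ⟨σ, h⟩ := cent_y m h1
  have e : ∀ z : H, y * z = z * y → m * z = z * m → MTwelve.w σ * z = z * MTwelve.w σ := by
    intro z hz hm
    rcases h with rfl | rfl
    · exact hm
    · have h5 : y * (MTwelve.w σ * z) = y * (z * MTwelve.w σ) := by
        rw [← mul_assoc, hm, ← mul_assoc, ← mul_assoc, hz]
      exact mul_left_cancel h5
  have e1 := e p (by rw [← w_p]; exact y_comm _) h2
  have e2 := e r (by rw [← w_r]; exact y_comm _) h3
  rw [← w_p, ← map_mul, ← map_mul] at e1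
  rw [← w_r, ← map_mul, ← map_mul] at e2
  have hl : ∃ l : List ℕ, m = wd l ∧ l ∈ [[], [1], [3], [1, 3], [0], [0, 1], [0, 3], [0, 1, 3]] := by
    have hσ := perm_cases σ (w_injective e1) (w_injective e2)
    rcases h with h | h <;> rcases hσ with rfl | rfl | rfl | rfl
    · exact ⟨[], by rw [h, map_one, wd_nil], by simp⟩
    · exact ⟨[1], by rw [h, w_p, wd_p], by simp⟩
    · exact ⟨[3], by rw [h, w_r, wd_r], by simp⟩
    · exact ⟨[1, 3], by rw [h, map_mul, w_p, w_r, wd_pr], by simp⟩
    · exact ⟨[0], by rw [h, map_one, mul_one, wd_y], by simp⟩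
    · exact ⟨[0, 1], by rw [h, w_p, wd_cons, wd_p]; rfl, by simp⟩
    · exact ⟨[0, 3], by rw [h, w_r, wd_cons, wd_r]; rfl, by simp⟩
    · exact ⟨[0, 1, 3], by rw [h, map_mul, w_p, w_r, wd_cons, wd_pr]; rfl, by simp⟩
  obtain ⟨l, hm, hl⟩ := hl
  rw [hm, kk, alpha_wd, ← wd_append, ← wd_append] at h4
  simp only [List.mem_cons, List.not_mem_nil, or_false] at hl
  rcases hl with rfl | rfl | rfl | rfl | rfl | rfl | rfl | rfl
  · left; rw [hm, wd_nil]
  · exact absurd (sig_eq h4 24 le_rfl) (by decide +kernel)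
  · exact absurd (sig_eq h4 24 le_rfl) (by decide +kernel)
  · right; rw [hm, wd_pr]
  · exact absurd (sig_eq h4 24 le_rfl) (by decide +kernel)
  · exact absurd (sig_eq h4 24 le_rfl) (by decide +kernel)
  · exact absurd (sig_eq h4 24 le_rfl) (by decide +kernel)
  · exact absurd (sig_eq h4 24 le_rfl) (by decide +kernel)

theorem alpha_p : alpha p = y * p := by
  rw [← w_p, alpha_odd (Equiv.Perm.sign_swap (by decide))]

theorem cent_c {m : H} (h1 : m * y = y * m) (h2 : m * p = y * p * m) : False := by
  obtain ⟨σ, h⟩ := cent_y m h1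
  have h3 : MTwelve.w σ * p = y * p * MTwelve.w σ := by
    rcases h with rfl | rfl
    · exact h2
    · have h5 : y * (MTwelve.w σ * p) = y * (y * p * MTwelve.w σ) := by
        calc y * (MTwelve.w σ * p) = y * MTwelve.w σ * p := by group
          _ = y * p * (y * MTwelve.w σ) := h2
          _ = y * (p * y) * MTwelve.w σ := by group
          _ = y * (y * p * MTwelve.w σ) := by rw [← w_p, ← y_comm]; group
      exact mul_left_cancel h5
  rw [← w_p] at h3
  apply y_ne_w (σ * Equiv.swap 0 1 * σ⁻¹ * (Equiv.swap 0 1)⁻¹)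
  rw [map_mul, map_mul, map_mul, h3, map_inv, map_inv]
  have h6 : MTwelve.w (Equiv.swap 0 1) * MTwelve.w σ * (MTwelve.w σ)⁻¹ * (MTwelve.w (Equiv.swap 0 1))⁻¹ = 1 := by group
  calc y = y * (MTwelve.w (Equiv.swap 0 1) * MTwelve.w σ * (MTwelve.w σ)⁻¹ * (MTwelve.w (Equiv.swap 0 1))⁻¹) := by
        rw [h6, mul_one]
    _ = _ := by simp only [mul_assoc]

variable {G : Type*} [Group G] {t c d : G} {f : H →* G}

theorem cent_G (C : CtxO t c f) {g : G} (h0 : g * t = t * g) (h1 : g * f y = f y * g) (h2 : g * f p = f p * g)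
    (h3 : g * f r = f r * g) (h4 : g * (f kk * c) = f kk * c * g) :
    g = 1 ∨ g = t ∨ g = f (p * r) ∨ g = t * f (p * r) := by
  have key : ∀ a m : G, Commute a (f y) → Commute a (f p) → Commute a (f r) → Commute a (f kk * c) → g = a * m →
      m * f y = f y * m ∧ m * f p = f p * m ∧ m * f r = f r * m ∧ m * (f kk * c) = f kk * c * m := by
    intro a m a1 a2 a3 a4 hg
    have e : ∀ z : G, Commute a z → g * z = z * g → m * z = z * m := by
      intro z hz hgz
      have h5 : m = a⁻¹ * g := by rw [hg]; group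
      have h6 : Commute m z := by rw [h5]; exact hz.inv_left.mul_left hgz
      exact h6
    exact ⟨e _ a1 h1, e _ a2 h2, e _ a3 h3, e _ a4 h4⟩
  have ct : ∀ m, Commute t (f m) := fun m => (C.comm m).symm
  have tk : Commute t (f kk * c) := (ct _).mul_right C.ct.symm
  have caseF : ∀ m : H, f m * f y = f y * f m → f m * f p = f p * f m → f m * f r = f r * f m →
      f m * (f kk * c) = f kk * c * f m → m = 1 ∨ m = p * r := by
    intro m m1 m2 m3 m4
    have e : ∀ u v : H, f u * f v = f v * f u → u * v = v * u := fun u v h => C.inj (by rw [map_mul, map_mul, h])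
    refine cent_H (e _ _ m1) (e _ _ m2) (e _ _ m3) ?_
    apply C.inj
    rw [map_mul, map_mul]
    have h5 : f kk * c * f m = f kk * f (alpha m) * c := by rw [mul_assoc, C.cf, mul_assoc]
    rw [h5, ← mul_assoc] at m4
    exact mul_right_cancel m4
  have caseC : ∀ m : H, c * f m * f y = f y * (c * f m) → c * f m * f p = f p * (c * f m) → False := by
    intro m m1 m2
    have h5 : ∀ z : H, f z * c = c * f (alpha z) := by
      intro z
      rw [C.cf, alpha_alpha]
    refine cent_c (m := m) ?_ ?_
    · apply C.inj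
      rw [map_mul, map_mul]
      rw [mul_assoc, ← mul_assoc (f y), h5, alpha_y, mul_assoc] at m1
      exact mul_left_cancel m1
    · apply C.inj
      rw [map_mul, map_mul f (y * p) m, ← alpha_p]
      rw [mul_assoc, ← mul_assoc (f p), h5, mul_assoc] at m2
      exact mul_left_cancel m2
  obtain ⟨m, hm | hm | hm | hm⟩ := C.cent g h0
  · obtain ⟨k1, k2, k3, k4⟩ := key 1 (f m) (Commute.one_left _) (Commute.one_left _) (Commute.one_left _)
      (Commute.one_left _) (by rw [one_mul]; exact hm)
    rcases caseF m k1 k2 k3 k4 with h5 | h5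
    · left; rw [hm, h5, map_one]
    · right; right; left; rw [hm, h5]
  · obtain ⟨k1, k2, k3, k4⟩ := key t (f m) (ct _) (ct _) (ct _) tk hm
    rcases caseF m k1 k2 k3 k4 with h5 | h5
    · right; left; rw [hm, h5, map_one, mul_one]
    · right; right; right; rw [hm, h5]
  · obtain ⟨k1, k2, -, -⟩ := key 1 (c * f m) (Commute.one_left _) (Commute.one_left _) (Commute.one_left _)
      (Commute.one_left _) (by rw [one_mul]; exact hm)
    exact (caseC m k1 k2).elim
  · obtain ⟨k1, k2, -, -⟩ := key t (c * f m) (ct _) (ct _) (ct _) tk hm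
    exact (caseC m k1 k2).elim

/-! ### the theorem -/

set_option maxHeartbeats 1000000 in
/-- **`a` commutes with `x`.** -/
theorem x_comm (C : CtxO t c f) {a : G} (aa : a * a = 1) (hat : a * t * a = t * f (p * r))
    (ay : a * f y = f y * a) (ap : a * f p = f p * a) (ar : a * f r = f r * a) (ac : a * c = c * a)
    (ak : a * f kk = f kk * a) : a * f xx = f xx * a := by
  have X2 : f xx * f xx = 1 := by rw [← map_mul, xx_sq, map_one]
  have vv : f (p * r) * f (p * r) = 1 := by
    rw [← map_mul]
    have : p * r * (p * r) = 1 := v1_sq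
    rw [this, map_one]
  have Xt : f xx * t = t * f xx := C.comm _
  have Xv : f xx * f (p * r) = f (p * r) * f xx := by rw [← map_mul, xx_pr, map_mul]
  have tv : t * f (p * r) = f (p * r) * t := (C.comm _).symm
  have hat2 : a * (t * f (p * r)) * a = t := by
    rw [← hat]
    calc a * (a * t * a) * a = (a * a) * t * (a * a) := by group
      _ = t := by rw [aa, one_mul, mul_one]
  have Xtv : f xx * (t * f (p * r)) = t * f (p * r) * f xx := by
    rw [← mul_assoc, Xt, mul_assoc, Xv, mul_assoc]
  set h := a * f xx * a with hh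
  set w' := f xx * h with hw
  have h2 : h * h = 1 := by
    rw [hh]
    calc a * f xx * a * (a * f xx * a) = a * f xx * (a * a) * f xx * a := by group
      _ = a * (f xx * f xx) * a := by rw [aa, mul_one]; group
      _ = 1 := by rw [X2, mul_one, aa]
  -- conjugation by `a` of an element commuting with `x`
  have conj_h : ∀ z z' : G, a * z * a = z' → f xx * z = z * f xx → h * z' = z' * h := by
    intro z z' hz hx
    rw [hh, ← hz]
    calc a * f xx * a * (a * z * a) = a * f xx * (a * a) * z * a := by group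
      _ = a * (f xx * z) * a := by rw [aa, mul_one]; group
      _ = a * (z * f xx) * a := by rw [hx]
      _ = a * z * (a * a) * f xx * a := by rw [aa, mul_one]; group
      _ = a * z * a * (a * f xx * a) := by group
  have ht : h * t = t * h := conj_h _ _ hat2 Xtv
  have w0 : w' * t = t * w' := by
    rw [hw, mul_assoc, ht, ← mul_assoc, Xt, mul_assoc]
  -- elements commuting with `a`
  have comm_w : ∀ u u' : G, a * u = u * a → a * u' = u' * a → f xx * u * f xx = u' → w' * u = u * w' := by
    intro u u' hu hu' hx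
    have h5 : h * u * h = u' := by
      rw [hh]
      calc a * f xx * a * u * (a * f xx * a) = a * f xx * (a * u) * (a * f xx * a) := by group
        _ = a * f xx * (u * a) * (a * f xx * a) := by rw [hu]
        _ = a * f xx * u * (a * a) * f xx * a := by group
        _ = a * (f xx * u * f xx) * a := by rw [aa, mul_one]; group
        _ = u' * (a * a) := by rw [hx, hu', mul_assoc]
        _ = u' := by rw [aa, mul_one]
    have h6 : f xx * u' * f xx = u := by
      rw [← hx]
      calc f xx * (f xx * u * f xx) * f xx = (f xx * f xx) * u * (f xx * f xx) := by group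
        _ = u := by rw [X2, one_mul, mul_one]
    have h7 : h * u = u' * h := by
      rw [← h5]
      calc h * u = h * u * (h * h) := by rw [h2, mul_one]
        _ = h * u * h * h := by group
    rw [hw, mul_assoc, h7]
    calc f xx * (u' * h) = f xx * u' * (f xx * f xx) * h := by rw [X2, mul_one]; group
      _ = (f xx * u' * f xx) * (f xx * h) := by group
      _ = u * (f xx * h) := by rw [h6]
  have cm : ∀ z z' : G, a * z = z * a → a * z' = z' * a → a * (z * z') = z * z' * a := by
    intro z z' hz hz'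
    rw [← mul_assoc, hz, mul_assoc, hz', mul_assoc]
  have w1 : w' * f y = f y * w' := by
    refine comm_w (f y) (f (p * (kk * (y * kk)))) ay ?_ ?_
    · simp only [map_mul]
      exact cm _ _ ap (cm _ _ ak (cm _ _ ay ak))
    · rw [← map_mul, ← map_mul, ← xx_y, mul_assoc]
  have w2 : w' * f p = f p * w' := by
    refine comm_w (f p) (f (p * (kk * (y * (p * kk))))) ap ?_ ?_
    · simp only [map_mul]
      exact cm _ _ ap (cm _ _ ak (cm _ _ ay (cm _ _ ap ak)))
    · rw [← map_mul, ← map_mul, ← xx_p, mul_assoc]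
  have w3 : w' * f r = f r * w' := by
    refine comm_w (f r) (f (p * (kk * (y * (r * kk))))) ar ?_ ?_
    · simp only [map_mul]
      exact cm _ _ ap (cm _ _ ak (cm _ _ ay (cm _ _ ar ak)))
    · rw [← map_mul, ← map_mul, ← xx_r, mul_assoc]
  have w4 : w' * (f kk * c) = f kk * c * w' := by
    refine comm_w (f kk * c) (f kk * c) (cm _ _ ak ac) (cm _ _ ak ac) ?_
    calc f xx * (f kk * c) * f xx = f xx * f kk * (c * f xx) := by group
      _ = f xx * f kk * (f (alpha xx) * c) := by rw [C.cf]
      _ = f (xx * (kk * alpha xx)) * c := by rw [map_mul, map_mul]; group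
      _ = f kk * c := by rw [xx_k]
  have hw1 := cent_G C w0 w1 w2 w3 w4
  -- `w'` is an involution centralizing `x` and `k`
  have hwc : w' * f xx = f xx * w' ∧ w' * f kk = f kk * w' ∧ w' * w' = 1 := by
    have hkt : t * f kk = f kk * t := (C.comm _).symm
    have hkv : f (p * r) * f kk = f kk * f (p * r) := by
      rw [← map_mul, ← map_mul, kk_pr]
    rcases hw1 with h5 | h5 | h5 | h5 <;> rw [h5]
    · refine ⟨by rw [one_mul, mul_one], by rw [one_mul, mul_one], mul_one 1⟩
    · exact ⟨Xt.symm, hkt, C.tt⟩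
    · exact ⟨Xv.symm, hkv, vv⟩
    · refine ⟨Xtv.symm, ?_, ?_⟩
      · rw [mul_assoc, hkv, ← mul_assoc, hkt, mul_assoc]
      · calc t * f (p * r) * (t * f (p * r)) = t * (f (p * r) * t) * f (p * r) := by group
          _ = (t * t) * (f (p * r) * f (p * r)) := by rw [← tv]; group
          _ = 1 := by rw [C.tt, vv, one_mul]
  obtain ⟨wx, wk, ww⟩ := hwc
  have hx3 : f xx * f kk * (f xx * f kk) * (f xx * f kk) = 1 := by
    have := congrArg f xk_three
    rw [map_one] at this
    rw [← this]
    simp only [map_mul, mul_assoc]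
  -- `h = x w'`
  have hxw : h = f xx * w' := by rw [hw, ← mul_assoc, X2, one_mul]
  have h8 : h * f kk * (h * f kk) * (h * f kk) = 1 := by
    have h9 : h * f kk = a * (f xx * f kk) * a := by
      rw [hh]
      calc a * f xx * a * f kk = a * f xx * (a * f kk) := by group
        _ = a * f xx * (f kk * a) := by rw [ak]
        _ = _ := by group
    rw [h9]
    calc a * (f xx * f kk) * a * (a * (f xx * f kk) * a) * (a * (f xx * f kk) * a) =
        a * (f xx * f kk) * (a * a) * (f xx * f kk) * (a * a) * (f xx * f kk) * a := by group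
      _ = a * (f xx * f kk * (f xx * f kk) * (f xx * f kk)) * a := by rw [aa, mul_one, mul_one]; group
      _ = 1 := by rw [hx3, mul_one, aa]
  have h9 : h * f kk = w' * (f xx * f kk) := by
    rw [hxw, ← wx, mul_assoc]
  have hcm : Commute w' (f xx * f kk) := Commute.mul_right wx wk
  have h10 : w' = 1 := by
    rw [h9] at h8
    have h11 : w' * (f xx * f kk) * (w' * (f xx * f kk)) * (w' * (f xx * f kk)) =
        w' * w' * w' * (f xx * f kk * (f xx * f kk) * (f xx * f kk)) := by
      set z := f xx * f kk with hz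
      have hzw : z * w' = w' * z := hcm.eq.symm
      calc w' * z * (w' * z) * (w' * z) = w' * (z * w') * (z * w') * z := by group
        _ = w' * (w' * z) * (w' * z) * z := by rw [hzw]
        _ = w' * w' * (z * w') * z * z := by group
        _ = w' * w' * (w' * z) * z * z := by rw [hzw]
        _ = _ := by group
    rw [h11, hx3, mul_one, ww, one_mul] at h8
    exact h8
  have h11 : h = f xx := by rw [hxw, h10, mul_one]
  calc a * f xx = a * f xx * (a * a) := by rw [aa, mul_one]
    _ = h * a := by rw [hh]; group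
    _ = f xx * a := by rw [h11]

/-- the word of `a = t k k c n d n d` -/
def aW : List Lt := [.t, .q, .p, .s, .b, .y, .p, .r, .b, .s, .q, .p, .s, .b, .y, .p, .r, .b, .s, .c,
  .s, .b, .y, .p, .r, .b, .s, .d, .s, .b, .y, .p, .r, .b, .s, .d]

theorem nn_inv : (nn : H)⁻¹ = nn := by
  rw [nn, wd_reverse]
  exact wd_eq (by decide +kernel)

/-- the relator `r1` holds as soon as `a` commutes with `x` -/
theorem r1_of (C : CtxO t c f) {a : G} (ha : a = t * f (kk * kk) * (c * f nn * d * f nn * d))
    (hx : a * f xx = f xx * a) :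
    (r1.map (gg t c d f)).prod = 1 := by
  have h1 : f nn = f s * (f b * (f y * (f p * (f r * (f b * f s))))) := by
    simp only [nn, wd, gen, List.map_cons, List.map_nil, List.prod_cons, List.prod_nil, mul_one, map_mul]
  have h2 : f xx = f b * (f q * (f s * f b)) := by
    simp only [xx, wd, gen, List.map_cons, List.map_nil, List.prod_cons, List.prod_nil, mul_one, map_mul]
  have h3 : (r1.map (gg t c d f)).prod =
      f y * (c * f nn * d * f nn * d) * f xx * (d⁻¹ * f nn * d⁻¹ * f nn * c) * f y * f xx := by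
    rw [h1, h2]
    simp only [r1, gg, List.map_cons, List.map_nil, List.prod_cons, List.prod_nil, mul_one, mul_assoc]
  have h4 : d⁻¹ * f nn * d⁻¹ * f nn * c = (c * f nn * d * f nn * d)⁻¹ := by
    have h5 : (f nn)⁻¹ = f nn := by rw [← map_inv, nn_inv]
    simp only [mul_inv_rev, h5, C.inv_c, mul_assoc]
  rw [h3, h4]
  set g0 := c * f nn * d * f nn * d with hg0
  have h6 : g0 = (f (kk * kk))⁻¹ * t⁻¹ * a := by rw [ha]; group
  have h7 : g0 * f xx * g0⁻¹ = (f (kk * kk))⁻¹ * f xx * f (kk * kk) := by
    have h8 : t⁻¹ * f xx * t = f xx := by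
      rw [mul_assoc, C.comm, ← mul_assoc, inv_mul_cancel, one_mul]
    rw [h6]
    calc (f (kk * kk))⁻¹ * t⁻¹ * a * f xx * ((f (kk * kk))⁻¹ * t⁻¹ * a)⁻¹ =
        (f (kk * kk))⁻¹ * (t⁻¹ * (a * f xx * a⁻¹) * t) * f (kk * kk) := by group
      _ = (f (kk * kk))⁻¹ * (t⁻¹ * f xx * t) * f (kk * kk) := by rw [hx, mul_inv_cancel_right]
      _ = _ := by rw [h8]
  have h9 : f y * g0 * f xx * g0⁻¹ * f y * f xx = f y * (g0 * f xx * g0⁻¹) * f y * f xx := by group
  rw [h9, h7]
  have h10 := congrArg f xx_kk
  rw [map_one] at h10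
  rw [← h10]
  simp only [map_mul, map_inv, mul_assoc]

theorem aW_prod : (aW.map (gg t c d f)).prod = t * f (kk * kk) * (c * f nn * d * f nn * d) := by
  have h1 : f nn = f s * (f b * (f y * (f p * (f r * (f b * f s))))) := by
    simp only [nn, wd, gen, List.map_cons, List.map_nil, List.prod_cons, List.prod_nil, mul_one, map_mul]
  have h2 : f (kk * kk) = f q * (f p * (f s * (f b * (f y * (f p * (f r * (f b * (f s * (f q * (f p * (f s *
      (f b * (f y * (f p * (f r * (f b * f s)))))))))))))))) := by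
    simp only [kk, wd, gen, List.map_cons, List.map_nil, List.prod_cons, List.prod_nil, mul_one, map_mul, mul_assoc]
  rw [h1, h2]
  simp only [aW, gg, List.map_cons, List.map_nil, List.prod_cons, List.prod_nil, mul_one, mul_assoc]

/-- **The relator `r1`.** -/
theorem r1_ok (C : CtxO t c f) {a : G} (ha : (aW.map (gg t c d f)).prod = a) (aa : a * a = 1)
    (hat : a * t * a = t * f (p * r)) (ay : a * f y = f y * a) (ap : a * f p = f p * a) (ar : a * f r = f r * a)
    (ac : a * c = c * a) (ak : a * f kk = f kk * a) : (r1.map (gg t c d f)).prod = 1 :=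
  r1_of C (ha.symm.trans aW_prod) (x_comm C aa hat ay ap ar ac ak)

end Cfsg.Agent.CoThreeStd.SuzP.ROne
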