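import Cfsg.Agent.CoThreeStd.SuzP.Outer
import Cfsg.Agent.CoThreeStd.Parity

/-!
# Closing of the pattern `Suz:2` (S1750)

`G` a finite group with elements `g x` (`x` a letter) satisfying the relators of `P`, `g y ≠ 1`, the centralizer of
`t` inside the group generated, and the parity property for the class of `t` (`par`; `T h` is any property of the
elements `h` implied by `h ~ t`, e.g. `IsConj t h`). Then `T (t y)`.
-/

set_option autoImplicit false

namespace Cfsg.Agent.CoThreeStd.SuzP.Closing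

open Cfsg.Agent.CoThreeStd.SuzP.Data Cfsg.Agent.CoThreeStd.SuzP.Pres Cfsg.Agent.CoThreeStd.SuzP.Order
  Cfsg.Agent.CoThreeStd.SuzP.Outer

variable {G : Type*} [Group G]

theorem injective (h : UB) (g : Lt → G) (hr : ∀ w ∈ rels, (w.map g).prod = 1) (hy : g .y ≠ 1) :
    Function.Injective (toHom g hr) := by
  rw [← MonoidHom.ker_eq_bot_iff]
  by_contra hK
  have h1 := mem_of_normal h (toHom g hr).ker hK
  rw [MonoidHom.mem_ker, toHom_ge] at h1
  exact hy h1

theorem closing [Finite G] (h : UB) (g : Lt → G) (hr : ∀ w ∈ rels, (w.map g).prod = 1) (hy : g .y ≠ 1)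
    (cent : Subgroup.centralizer {g .t} ≤ Subgroup.closure (Set.range g))
    (T : G → Prop) (hT : ∀ x, T x → x * x = 1) (hTc : ∀ x, IsConj (g .t) x → T x)
    (hTT : ∀ x y, IsConj x y → T x → T y)
    (par : ∀ C₀ C : Subgroup G, C₀ ≤ C → C₀.relIndex C = 2 → Subgroup.centralizer {g .t} ≤ C →
      (∀ x ∈ C, x ∉ C₀ → T x → IsConj (g .t) x) →
      2 * Nat.card C ∣ Nat.card (Subgroup.centralizer ({g .t} : Set G)) *
        Nat.card {x : G // (x ∈ C ∧ x ∉ C₀) ∧ IsConj (g .t) x}) :
    T (g .t * g .y) := by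
  by_contra hty
  have hfin : Finite P := h.1
  let f := toHom g hr
  have hf : Function.Injective f := injective h g hr hy
  have hft : f (ge .t) = g .t := toHom_ge _ _ _
  have hfy : f (ge .y) = g .y := toHom_ge _ _ _
  have hC : f.range = Subgroup.closure (Set.range g) := range_toHom g hr
  have key : ∀ x ∈ f.range, x ∉ χ.ker.map f → T x → ∃ c ∈ f.range, c * g .t * c⁻¹ = x := by
    rintro _ ⟨s, rfl⟩ hx hTx
    have hs : s * s = 1 := by
      apply hf
      rw [map_mul, map_one]
      exact hT _ hTx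
    have hc : χ s = -1 := by
      rcases Int.units_eq_one_or (χ s) with hc | hc
      · exact absurd (Subgroup.mem_map_of_mem f (show s ∈ χ.ker from hc)) hx
      · exact hc
    rcases outer h hs hc with h1 | h1
    · obtain ⟨c, hc⟩ := isConj_iff.1 h1.symm
      exact ⟨f c, ⟨c, rfl⟩, by rw [← hft, ← map_mul, ← map_inv, ← map_mul, hc]⟩
    · exfalso
      apply hty
      rw [← hft, ← hfy, ← map_mul]
      exact hTT _ _ (MonoidHom.map_isConj f h1) hTx
  have hle : χ.ker.map f ≤ f.range := by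
    rintro _ ⟨x, _, rfl⟩
    exact ⟨x, rfl⟩
  have hrel : (χ.ker.map f).relIndex f.range = 2 := by
    rw [MonoidHom.range_eq_map, Subgroup.relIndex_map_map_of_injective _ _ hf, Subgroup.relIndex_top_right,
      index_ker]
  have hcent : Subgroup.centralizer {g .t} ≤ f.range := by rw [hC]; exact cent
  have h1 := par (χ.ker.map f) f.range hle hrel hcent (by
    intro x hx hx' hTx
    obtain ⟨c, _, hc⟩ := key x hx hx' hTx
    exact isConj_iff.2 ⟨c, hc⟩)
  have h2 := Parity.card_conj_eq (g .t) (fun x => x ∈ f.range ∧ x ∉ χ.ker.map f)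
  rw [← h2] at h1
  have h3 : ∀ x : G, (x⁻¹ * g .t * x ∈ f.range ∧ x⁻¹ * g .t * x ∉ χ.ker.map f) ↔ x ∈ f.range := by
    intro x
    constructor
    · rintro ⟨hx, hx'⟩
      obtain ⟨c, hc, e⟩ := key _ hx hx' (hTc _ (isConj_iff.2 ⟨x⁻¹, by rw [inv_inv]⟩))
      have h4 : x * c ∈ Subgroup.centralizer {g .t} := by
        rw [Subgroup.mem_centralizer_iff]
        rintro _ rfl
        have e2 : x * (c * g .t * c⁻¹) * c = g .t * x * c := by rw [e]; group
        have e3 : x * (c * g .t * c⁻¹) * c = x * c * g .t := by group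
        rw [← mul_assoc, ← e2, e3]
      have h5 := f.range.mul_mem (hcent h4) (f.range.inv_mem hc)
      rwa [mul_inv_cancel_right] at h5
    · rintro ⟨s, rfl⟩
      have e : (f s)⁻¹ * g .t * f s = f (s⁻¹ * ge .t * s) := by
        rw [map_mul, map_mul, map_inv, hft]
      rw [e]
      refine ⟨⟨_, rfl⟩, ?_⟩
      rintro ⟨z, hz, hz'⟩
      have h4 : z = s⁻¹ * ge .t * s := hf hz'
      have h5 : χ z = 1 := hz
      rw [h4, map_mul, map_mul, map_inv, χ_ge, mul_right_comm, inv_mul_cancel, one_mul] at h5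
      exact absurd h5 (by decide)
  have h4 : Nat.card {x : G // x⁻¹ * g .t * x ∈ f.range ∧ x⁻¹ * g .t * x ∉ χ.ker.map f} = Nat.card f.range :=
    Nat.card_congr (Equiv.subtypeEquivRight h3)
  rw [h4] at h1
  have h5 : 0 < Nat.card f.range := Nat.card_pos
  have h6 := Nat.le_of_dvd h5 h1
  omega

end Cfsg.Agent.CoThreeStd.SuzP.Closing
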