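import Cfsg.Agent.CoThreeStd.SuzP.SylB
import Cfsg.Agent.CoThreeStd.Core.Oracle

/-!
# Closing of the pattern `Suz:2` (S1750), for a quotient `P'` of `P` of order at most `3 |Suz:2|` (helper781)
-/

set_option autoImplicit false

namespace Cfsg.Agent.CoThreeStd.SuzP.ClosingB

open Cfsg.Agent.CoThreeStd.SuzP.Data Cfsg.Agent.CoThreeStd.SuzP.Pres Cfsg.Agent.CoThreeStd.SuzP.Model
  Cfsg.Agent.CoThreeStd.SuzP.Order Cfsg.Agent.CoThreeStd.SuzP.Three Cfsg.Agent.CoThreeStd.SuzP.SylB
  Cfsg.Agent.CoThreeStd.Core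

/-- a quotient `P'` of `P` through which `ψ` factors -/
structure Mod (P' : Type*) [Group P'] where
  π : P →* P'
  sur : Function.Surjective π
  ψ' : P' →* Equiv.Perm ℕ
  comp : ∀ x, ψ' (π x) = ψ x

/-- `P` itself -/
noncomputable def Mod.id : Mod P where
  π := MonoidHom.id P
  sur := Function.surjective_id
  ψ' := ψ
  comp _ := rfl

section

variable {P' : Type*} [Group P'] (M : Mod P')

theorem Mod.range : M.ψ'.range = PB := by
  apply le_antisymm
  · rintro _ ⟨x, rfl⟩
    obtain ⟨z, rfl⟩ := M.sur x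
    exact ⟨z, (M.comp z).symm⟩
  · rintro _ ⟨x, rfl⟩
    exact ⟨M.π x, M.comp x⟩

include M in
theorem Mod.hb [Finite P'] (hc : Nat.card P' ≤ 2690072985600) : HB := hb_of M.range hc

variable {G : Type*} [Group G] [Finite P'] (hc : Nat.card P' ≤ 2690072985600) (F : P' →* G)
  (hZ : ∀ x : G, (∀ g, x * F g = F g * x) → x = 1)

include hc hZ in
/-- the image of the kernel of `ψ'` has exponent three -/
theorem cube {r : P'} (hr : r ∈ M.ψ'.ker) : F r * F r * F r = 1 := by
  have h3 := card_ker M.range hc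
  have hpos : 0 < Nat.card M.ψ'.ker := Nat.card_pos
  have hpow : (⟨r, hr⟩ : M.ψ'.ker) ^ Nat.card M.ψ'.ker = 1 := pow_card_eq_one'
  have hpow' : r ^ Nat.card M.ψ'.ker = 1 := congrArg Subtype.val hpow
  rw [← map_mul, ← map_mul]
  rcases (by omega : Nat.card M.ψ'.ker = 1 ∨ Nat.card M.ψ'.ker = 2 ∨ Nat.card M.ψ'.ker = 3) with h | h | h
  · rw [h, pow_one] at hpow'
    rw [hpow', mul_one, mul_one, map_one]
  · have h1 : F r = 1 := by
      apply hZ
      intro g
      by_cases hr1 : r = 1
      · rw [hr1, map_one, one_mul, mul_one]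
      · obtain ⟨u, v, -, huv⟩ := Nat.card_eq_two_iff.1 h
        have key : ∀ z ∈ M.ψ'.ker, z ≠ 1 → z = r := by
          intro z hz hz1
          have e1 : (⟨z, hz⟩ : M.ψ'.ker) ∈ ({u, v} : Set M.ψ'.ker) := by rw [huv]; trivial
          have e2 : (⟨r, hr⟩ : M.ψ'.ker) ∈ ({u, v} : Set M.ψ'.ker) := by rw [huv]; trivial
          have e3 : (1 : M.ψ'.ker) ∈ ({u, v} : Set M.ψ'.ker) := by rw [huv]; trivial
          have n1 : (⟨z, hz⟩ : M.ψ'.ker) ≠ 1 := fun hh => hz1 (congrArg Subtype.val hh)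
          have n2 : (⟨r, hr⟩ : M.ψ'.ker) ≠ 1 := fun hh => hr1 (congrArg Subtype.val hh)
          have e4 : (⟨z, hz⟩ : M.ψ'.ker) = ⟨r, hr⟩ := by
            simp only [Set.mem_insert_iff, Set.mem_singleton_iff] at e1 e2 e3
            rcases e1 with e1 | e1 <;> rcases e2 with e2 | e2 <;> rcases e3 with e3 | e3
            · rw [e1, e2]
            · rw [e1, e2]
            · exact absurd (e1.trans e3.symm) n1
            · exact absurd (e2.trans e3.symm) n2
            · exact absurd (e2.trans e3.symm) n2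
            · exact absurd (e1.trans e3.symm) n1
            · rw [e1, e2]
            · rw [e1, e2]
          exact congrArg Subtype.val e4
        have h4 : g * r * g⁻¹ = r := by
          apply key _ (M.ψ'.normal_ker.conj_mem r hr g)
          intro h5
          apply hr1
          calc r = g⁻¹ * (g * r * g⁻¹) * g := by group
            _ = 1 := by rw [h5]; group
        rw [← map_mul, ← map_mul]
        congr 1
        exact (mul_inv_eq_iff_eq_mul.1 h4).symm
    rw [map_mul, map_mul, h1, mul_one, mul_one]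
  · rw [h] at hpow'
    rw [← map_one F]
    congr 1
    rw [← hpow', pow_succ, pow_succ, pow_one]

variable (hy : F (M.π (ge .y)) ≠ 1)

include hc hZ hy in
theorem ker_le : F.ker ≤ M.ψ'.ker := by
  intro n hn
  by_contra hne
  have hb := M.hb hc
  let ρ : P' →* M.ψ'.range := M.ψ'.rangeRestrict
  have hK : (F.ker.map M.ψ').subgroupOf PB ≠ ⊥ := by
    intro h1
    apply hne
    have hm : M.ψ' n ∈ PB := by rw [← M.range]; exact ⟨n, rfl⟩
    have h2 : (⟨M.ψ' n, hm⟩ : PB) ∈ (F.ker.map M.ψ').subgroupOf PB :=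
      Subgroup.mem_subgroupOf.2 (Subgroup.mem_map_of_mem _ hn)
    rw [h1, Subgroup.mem_bot] at h2
    exact congrArg Subtype.val h2
  have hnorm : ((F.ker.map M.ψ').subgroupOf PB).Normal := by
    refine ⟨?_⟩
    rintro ⟨_, hm⟩ ⟨k, hk, rfl⟩ ⟨_, z, rfl⟩
    apply Subgroup.mem_subgroupOf.2
    refine ⟨M.π z * k * (M.π z)⁻¹, F.normal_ker.conj_mem k hk _, ?_⟩
    rw [map_mul, map_mul, map_inv, M.comp]
    rfl
  have h1 := mem_of_normal hb _ hK
  obtain ⟨k, hk, hk'⟩ := Subgroup.mem_subgroupOf.1 h1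
  have hk'' : M.ψ' k = M.ψ' (M.π (ge .y)) := by rw [M.comp]; exact hk'
  have hr : k⁻¹ * M.π (ge .y) ∈ M.ψ'.ker := by
    rw [MonoidHom.mem_ker, map_mul, map_inv, hk'', inv_mul_cancel]
  have h2 := cube M hc F hZ hr
  have hk1 : F k = 1 := hk
  have h3 : F (k⁻¹ * M.π (ge .y)) = F (M.π (ge .y)) := by
    rw [map_mul, map_inv, hk1, inv_one, one_mul]
  rw [h3] at h2
  have h4 : F (M.π (ge .y)) * F (M.π (ge .y)) = 1 := by
    have h5 : ge .y * ge .y = 1 := by
      have := wd_rel (w := [.y, .y]) (by decide)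
      simpa [Pres.wd] using this
    rw [← map_mul, ← map_mul, h5, map_one, map_one]
  rw [h4, one_mul] at h2
  exact hy h2

include hc hZ hy in
/-- **Closing.** -/
theorem closing [Finite G] {t : G} {inner 𝒟 : G → Prop} (PP : PD t inner 𝒟) (hgt : F (M.π (ge .t)) = t)
    (cent : ∀ x, x * t = t * x → x ∈ F.range) : 𝒟 (t * F (M.π (ge .y))) := by
  by_contra hty
  have hb := M.hb hc
  let f : P →* G := F.comp M.π
  have hft : f (ge .t) = t := hgt
  have hker : ∀ x, f x = 1 → ψ x = 1 := by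
    intro x hx
    have h1 : M.π x ∈ F.ker := hx
    have h2 := ker_le M hc F hZ hy h1
    rw [MonoidHom.mem_ker, M.comp] at h2
    exact h2
  have hker' : f.ker ≤ χ.ker := by
    intro x hx
    have h1 := χ_of_ψ hb (x := x) (y := 1) (by rw [map_one]; exact hker x hx)
    rw [map_one] at h1
    exact h1
  have hrange : F.range = f.range := by
    apply le_antisymm
    · rintro _ ⟨x, rfl⟩
      obtain ⟨z, rfl⟩ := M.sur x
      exact ⟨z, rfl⟩
    · rintro _ ⟨x, rfl⟩
      exact ⟨M.π x, rfl⟩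
  have hle : χ.ker.map f ≤ f.range := by
    rintro _ ⟨x, _, rfl⟩
    exact ⟨x, rfl⟩
  have hrel : (χ.ker.map f).relIndex f.range = 2 := by
    have e1 : (χ.ker.map f).subgroupOf f.range = χ.ker.map f.rangeRestrict := by
      ext ⟨_, x, rfl⟩
      rw [Subgroup.mem_subgroupOf]
      constructor
      · rintro ⟨z, hz, hz'⟩
        exact ⟨z, hz, Subtype.ext hz'⟩
      · rintro ⟨z, hz, hz'⟩
        exact ⟨z, hz, congrArg Subtype.val hz'⟩
    show ((χ.ker.map f).subgroupOf f.range).index = 2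
    rw [e1, Subgroup.index_map_eq _ f.rangeRestrict_surjective (by rw [MonoidHom.ker_rangeRestrict]; exact hker'), index_ker]
  refine PP.kill (χ.ker.map f) f.range hle hrel (fun x hx => by rw [← hrange]; exact cent x hx) ?_ ?_
  · rintro ⟨z, hz, hz'⟩
    have h4 : (ge .t)⁻¹ * z ∈ f.ker := by
      rw [MonoidHom.mem_ker, map_mul, map_inv, hz', hft, inv_mul_cancel]
    have h5 := hker' h4
    have h6 : χ z = 1 := hz
    rw [MonoidHom.mem_ker, map_mul, map_inv, h6, χ_ge] at h5
    exact absurd h5 (by decide)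
  · rintro _ ⟨s, rfl⟩ hx hTx
    have hss : f (s * s) = 1 := by
      rw [map_mul]
      exact PP.sq _ hTx
    have hs : rr s * rr s = 1 := by
      rw [← map_mul]
      exact Subtype.ext (hker _ hss)
    have hcs : χ s = -1 := by
      rcases Int.units_eq_one_or (χ s) with h1 | h1
      · exact absurd (Subgroup.mem_map_of_mem f (show s ∈ χ.ker from h1)) hx
      · exact h1
    have tt : ge .t * ge .t = 1 := ge_sq_t
    have key : ∀ t' : P, t' * t' = 1 → IsConj (rr s) (rr t') → ∃ c, f c * f t' * (f c)⁻¹ = f s := by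
      intro t' ht' h1
      obtain ⟨g, hg⟩ := isConj_iff.1 h1
      obtain ⟨g, rfl⟩ := rr_sur g
      rw [← map_inv, ← map_mul, ← map_mul] at hg
      have hg' : ψ (g * s * g⁻¹) = ψ t' := congrArg Subtype.val hg
      obtain ⟨r, hr⟩ : ∃ r, r = M.π (t'⁻¹ * (g * s * g⁻¹)) := ⟨_, rfl⟩
      have hrk : r ∈ M.ψ'.ker := by
        rw [hr, MonoidHom.mem_ker, M.comp, map_mul, map_inv, hg', inv_mul_cancel]
      have h3 := cube M hc F hZ hrk
      have hab : f t' * F r = f g * f s * (f g)⁻¹ := by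
        rw [hr]
        show f t' * f (t'⁻¹ * (g * s * g⁻¹)) = _
        rw [← map_mul, ← map_inv, ← map_mul, ← map_mul]
        congr 1
        group
      have ha : f t' * f t' = 1 := by rw [← map_mul, ht', map_one]
      have hss' : f s * f s = 1 := by rw [← map_mul]; exact hss
      have hab2 : (f t' * F r) * (f t' * F r) = 1 := by
        rw [hab]
        calc f g * f s * (f g)⁻¹ * (f g * f s * (f g)⁻¹) = f g * (f s * f s) * (f g)⁻¹ := by group
          _ = 1 := by rw [hss']; group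
      obtain ⟨k, hk⟩ := M.sur r
      have hfk : f k = F r := by rw [← hk]; rfl
      generalize F r = β at *
      generalize f t' = α at *
      -- `β α β⁻¹ = α β`
      have e1 : β * α * β = α := by
        calc β * α * β = α⁻¹ * ((α * β) * (α * β)) := by group
          _ = α := by rw [hab2, mul_one]; exact inv_eq_of_mul_eq_one_left ha
      have e2 : β * α * β⁻¹ = α * β := by
        calc β * α * β⁻¹ = (β * α * β) * (β⁻¹ * β⁻¹) := by group
          _ = α * (β⁻¹ * β⁻¹) := by rw [e1]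
          _ = α * ((β * β * β) * (β⁻¹ * β⁻¹)) := by rw [h3, one_mul]
          _ = α * β := by group
      refine ⟨g⁻¹ * k, ?_⟩
      rw [map_mul, map_inv, hfk]
      calc (f g)⁻¹ * β * α * ((f g)⁻¹ * β)⁻¹ = (f g)⁻¹ * (β * α * β⁻¹) * f g := by group
        _ = (f g)⁻¹ * (f g * f s * (f g)⁻¹) * f g := by rw [e2, hab]
        _ = f s := by group
    rcases outer hb hs hcs with h1 | h1
    · obtain ⟨c, h2⟩ := key _ tt h1
      exact ⟨f c, ⟨c, rfl⟩, by rw [← hft]; exact h2⟩
    · exfalso
      apply hty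
      have h5 : ge .y * ge .y = 1 := by
        have := wd_rel (w := [.y, .y]) (by decide)
        simpa [Pres.wd] using this
      have h6 : ge .t * (ge .y * (ge .t * ge .y)) = 1 := by
        have := wd_rel (w := [.t, .y, .t, .y]) (by decide)
        simpa [Pres.wd] using this
      obtain ⟨c, h2⟩ := key (ge .t * ge .y) (by rw [mul_assoc]; exact h6) h1
      have h7 := PP.conj _ (f c)⁻¹ hTx
      rw [← h2, inv_inv] at h7
      have e3 : (f c)⁻¹ * (f c * f (ge .t * ge .y) * (f c)⁻¹) * f c = t * F (M.π (ge .y)) := by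
        rw [map_mul, hft]
        show (f c)⁻¹ * (f c * (t * f (ge .y)) * (f c)⁻¹) * f c = t * f (ge .y)
        group
      rwa [e3] at h7

end

end Cfsg.Agent.CoThreeStd.SuzP.ClosingB
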