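import Cfsg.Agent.CoThreeStd.SuzP.Pres
import Cfsg.Agent.Lib.CosetPartial

/-!
# The relation of `N(E₃₂)`: common part of the 31 collapses

`r0 = D n d q n d q n q` with `n = s b y p r b s` centralises `E₃₂ = <t, y, c, p r, q p r q>` in the target group, so it
lies in `E₃₂`. If the letters satisfy the relators of `P` without the last one and `r0` is a non-trivial element of
`E₃₂`, then `d` centralises `t` (coset enumeration certificates), so that `c = 1`.
-/

set_option autoImplicit false

namespace Cfsg.Agent.CoThreeStd.SuzP.CollBase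

open Cfsg.Agent.CoThreeStd.SuzP.Data Cfsg.Agent.CoThreeStd.SuzP.Pres Cfsg.Agent.SporadicRecognition.CosetCert

/-- the letters of the certificates -/
def sw : ℕ → List Lt
  | 0 => [.y]
  | 1 => [.p]
  | 2 => [.q]
  | 3 => [.r]
  | 4 => [.s]
  | 5 => [.b]
  | 6 => [.c]
  | 7 => [.t]
  | 8 => [.d]
  | 9 => [.D]
  | 10 => [.s, .b, .y, .p, .r, .b, .s]
  | _ => []

/-- the last relator `D n d q n d q n q` of `P` -/
def r0 : List Lt := [.D, .s, .b, .y, .p, .r, .b, .s, .d, .q, .s, .b, .y, .p, .r, .b, .s, .d, .q, .s, .b, .y, .p, .r, .b,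
  .s, .q]

/-- `r0 * q p r q` after cancellation of `q q` -/
def r16 : List Lt := [.D, .s, .b, .y, .p, .r, .b, .s, .d, .q, .s, .b, .y, .p, .r, .b, .s, .d, .q, .s, .b, .y, .p, .r, .b, .s, .p, .r, .q]

/-- the relators of the certificates: the base relators, `n * n`, and the additional one -/
def okR (w : List Lt) (r : List ℕ) : Bool :=
  rels.dropLast.contains (r.flatMap sw) || (r == [10, 4, 5, 0, 1, 3, 5, 4]) || (r.flatMap sw == w)

/-- the formal inverse -/
def inv0 (x : ℕ) : ℕ := if x = 8 then 9 else if x = 9 then 8 else x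

variable {K : Type*} [Group K] (g : Lt → K)

/-- the values of the letters of the certificates -/
def gl (k : ℕ) : K := ((sw k).map g).prod

theorem ev_gl (r : List ℕ) : ev (gl g) r = ((r.flatMap sw).map g).prod := by
  induction r with
  | nil => rfl
  | cons k r ih => rw [ev_cons, ih, List.flatMap_cons, List.map_append, List.prod_append]; rfl

/-- all relators of `P` except the last one hold -/
def Base : Prop := ∀ w ∈ rels.dropLast, (w.map g).prod = 1

variable {g}

theorem sq (hb : Base g) {x : Lt} (h : [x, x] ∈ rels.dropLast := by decide +kernel) : g x * g x = 1 := by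
  have := hb _ h
  simpa using this

theorem comm (hb : Base g) {x y : Lt} (h : [x, y, x, y] ∈ rels.dropLast := by decide +kernel)
    (hx : [x, x] ∈ rels.dropLast := by decide +kernel) (hy : [y, y] ∈ rels.dropLast := by decide +kernel) :
    g x * g y = g y * g x := by
  have h1 := hb _ h
  have h2 := sq hb hx
  have h3 := sq hb hy
  simp only [List.map_cons, List.map_nil, List.prod_cons, List.prod_nil, mul_one] at h1
  have hx' : (g x)⁻¹ = g x := inv_eq_of_mul_eq_one_left h2
  have hy' : (g y)⁻¹ = g y := inv_eq_of_mul_eq_one_left h3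
  rw [← mul_assoc] at h1
  have h4 : (g x * g y)⁻¹ = g x * g y := inv_eq_of_mul_eq_one_left h1
  rw [mul_inv_rev, hx', hy'] at h4
  exact h4.symm

theorem nn (hb : Base g) : gl g 10 * gl g 10 = 1 := by
  have ss := sq hb (x := .s)
  have bb := sq hb (x := .b)
  have yy := sq hb (x := .y)
  have pp := sq hb (x := .p)
  have rr := sq hb (x := .r)
  have yp := comm hb (x := .y) (y := .p)
  have yr := comm hb (x := .y) (y := .r)
  have pr := comm hb (x := .p) (y := .r)
  have hA : (g .y * g .p * g .r) * (g .y * g .p * g .r) = 1 := by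
    calc (g .y * g .p * g .r) * (g .y * g .p * g .r)
        = g .y * g .p * (g .r * g .y) * g .p * g .r := by simp only [mul_assoc]
      _ = g .y * (g .p * g .y) * (g .r * g .p) * g .r := by rw [← yr]; simp only [mul_assoc]
      _ = g .y * (g .y * g .p) * (g .p * g .r) * g .r := by rw [← yp, ← pr]
      _ = (g .y * g .y) * (g .p * g .p) * (g .r * g .r) := by simp only [mul_assoc]
      _ = 1 := by rw [yy, pp, rr]; simp
  have hn : gl g 10 = g .s * g .b * (g .y * g .p * g .r) * (g .b * g .s) := by
    simp [gl, sw, mul_assoc]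
  rw [hn]
  calc g .s * g .b * (g .y * g .p * g .r) * (g .b * g .s) * (g .s * g .b * (g .y * g .p * g .r) * (g .b * g .s))
      = g .s * g .b * (g .y * g .p * g .r) * (g .b * (g .s * g .s) * g .b) * (g .y * g .p * g .r) * (g .b * g .s) := by
        simp only [mul_assoc]
    _ = g .s * g .b * ((g .y * g .p * g .r) * (g .y * g .p * g .r)) * (g .b * g .s) := by
        rw [ss, mul_one, bb, mul_one]; simp only [mul_assoc]
    _ = g .s * (g .b * g .b) * g .s := by rw [hA, mul_one]; simp only [mul_assoc]
    _ = 1 := by rw [bb, mul_one, ss]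

theorem hinv0 (hb : Base g) : ∀ x, x < 11 → gl g x * gl g (inv0 x) = 1 := by
  intro x hx
  have h1 : ∀ x : Lt, [x, x] ∈ rels.dropLast → g x * g x = 1 := fun x h => sq hb h
  have hdD : g .d * g .D = 1 := by
    have := hb [.d, .D] (by decide +kernel)
    simpa using this
  have hDd : g .D * g .d = 1 := by
    have := hb [.D, .d] (by decide +kernel)
    simpa using this
  interval_cases x
  · simpa [gl, sw, inv0] using h1 .y (by decide +kernel)
  · simpa [gl, sw, inv0] using h1 .p (by decide +kernel)
  · simpa [gl, sw, inv0] using h1 .q (by decide +kernel)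
  · simpa [gl, sw, inv0] using h1 .r (by decide +kernel)
  · simpa [gl, sw, inv0] using h1 .s (by decide +kernel)
  · simpa [gl, sw, inv0] using h1 .b (by decide +kernel)
  · simpa [gl, sw, inv0] using h1 .c (by decide +kernel)
  · simpa [gl, sw, inv0] using h1 .t (by decide +kernel)
  · simpa [gl, sw, inv0] using hdD
  · simpa [gl, sw, inv0] using hDd
  · have : inv0 10 = 10 := by decide
    rw [this]
    exact nn hb

theorem rel_ok (hb : Base g) {w : List Lt} (hw : (w.map g).prod = 1) {L : List (List ℕ)}
    (hL : L.all (okR w) = true) : ∀ r ∈ L, ev (gl g) r = 1 := by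
  intro r hr
  have h1 := List.all_eq_true.1 hL r hr
  unfold okR at h1
  rw [Bool.or_eq_true, Bool.or_eq_true] at h1
  rcases h1 with (h1 | h1) | h1
  · rw [ev_gl]
    exact hb _ (List.contains_iff_mem.1 h1)
  · rw [beq_iff_eq] at h1
    subst h1
    have h2 : ev (gl g) [10, 4, 5, 0, 1, 3, 5, 4] = gl g 10 * gl g 10 := by
      simp [ev, gl, sw, mul_assoc]
    rw [h2]
    exact nn hb
  · rw [beq_iff_eq] at h1
    rw [ev_gl, h1]
    exact hw

theorem sub_ok (hb : Base g) : ∀ r ∈ [[7], [0], [6], [1], [2], [3], [4], [5]],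
    ev (gl g) r ∈ Subgroup.centralizer ({g .t} : Set K) := by
  intro r hr
  have hty := comm hb (x := .t) (y := .y)
  have htc := comm hb (x := .t) (y := .c)
  have htp := comm hb (x := .t) (y := .p)
  have htq := comm hb (x := .t) (y := .q)
  have htr := comm hb (x := .t) (y := .r)
  have hts := comm hb (x := .t) (y := .s)
  have htb := comm hb (x := .t) (y := .b)
  rw [Subgroup.mem_centralizer_singleton_iff]
  simp only [List.mem_cons, List.not_mem_nil, or_false] at hr
  rcases hr with rfl | rfl | rfl | rfl | rfl | rfl | rfl | rfl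
  · simp [ev, gl, sw]
  · simpa [ev, gl, sw] using hty.symm
  · simpa [ev, gl, sw] using htc.symm
  · simpa [ev, gl, sw] using htp.symm
  · simpa [ev, gl, sw] using htq.symm
  · simpa [ev, gl, sw] using htr.symm
  · simpa [ev, gl, sw] using hts.symm
  · simpa [ev, gl, sw] using htb.symm

theorem c_eq_one (hb : Base g) (hd : g .d ∈ Subgroup.centralizer ({g .t} : Set K)) : g .c = 1 := by
  rw [Subgroup.mem_centralizer_singleton_iff] at hd
  have h1 := hb [.D, .t, .d, .c, .t] (by decide +kernel)
  have hDd : g .D * g .d = 1 := by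
    have := hb [.D, .d] (by decide +kernel)
    simpa using this
  have htt := sq hb (x := .t)
  simp only [List.map_cons, List.map_nil, List.prod_cons, List.prod_nil, mul_one] at h1
  have h2 : g .t * g .c * g .t = 1 := by
    calc g .t * g .c * g .t = (g .D * g .d) * g .t * g .c * g .t := by rw [hDd, one_mul]
      _ = g .D * (g .d * g .t) * g .c * g .t := by simp only [mul_assoc]
      _ = g .D * (g .t * g .d) * g .c * g .t := by rw [hd]
      _ = 1 := by rw [← h1]; simp only [mul_assoc]
  have ht : (g .t)⁻¹ = g .t := inv_eq_of_mul_eq_one_left htt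
  have h3 : g .c = (g .t)⁻¹ * (g .t * g .c * g .t) * (g .t)⁻¹ := by group
  rw [h3, h2, mul_one, ht, htt]

theorem prod_r16 (hb : Base g) (h : ((r0 ++ ([.q, .p, .r, .q] : List Lt)).map g).prod = 1) : (r16.map g).prod = 1 := by
  have h1 : (r0 ++ ([.q, .p, .r, .q] : List Lt)) = r0.dropLast ++ (([.q, .q] : List Lt) ++ ([.p, .r, .q] : List Lt)) := by
    decide +kernel
  have h2 : r16 = r0.dropLast ++ ([.p, .r, .q] : List Lt) := by decide +kernel
  have h3 : (([.q, .q] : List Lt).map g).prod = 1 := by simpa using sq hb (x := .q)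
  rw [h1, List.map_append, List.map_append, List.prod_append, List.prod_append, h3, one_mul] at h
  rw [h2, List.map_append, List.prod_append]
  exact h

/-- The form in which the certificates are used. -/
theorem close (hb : Base g) (C : Cert) (hC : ∀ x, x < 11 → C.inv x = inv0 x)
    {w : List Lt} (hw : (w.map g).prod = 1) {L : List (List ℕ)} (hL : L.all (okR w) = true)
    (H : ∀ (H : Subgroup K) (f : ℕ → K), (∀ x, x < 11 → f x * f (C.inv x) = 1) → (∀ r ∈ L, ev f r = 1) →
      (∀ s ∈ [[7], [0], [6], [1], [2], [3], [4], [5]], ev f s ∈ H) → ∀ w ∈ [[8]], ev f w ∈ H) : g .c = 1 := by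
  refine c_eq_one hb ?_
  have h1 := H (Subgroup.centralizer ({g .t} : Set K)) (gl g)
    (fun x hx => by rw [hC x hx]; exact hinv0 hb x hx) (rel_ok hb hw hL) (sub_ok hb) [8] (by simp)
  simpa [ev, gl, sw] using h1

end Cfsg.Agent.CoThreeStd.SuzP.CollBase
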