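import Cfsg.Agent.CoThreeStd.SuzP.Model
import Cfsg.Agent.SporadicRecognition.SuzOrder

/-!
# The image of `P` contains the simple Suzuki group as a proper subgroup
-/

set_option autoImplicit false
set_option maxRecDepth 100000
set_option Elab.async false

namespace Cfsg.Agent.CoThreeStd.SuzP.Link

open Cfsg.Spor Cfsg.Agent.CoThreeStd.SuzP.Data Cfsg.Agent.CoThreeStd.SuzP.Tab
  Cfsg.Agent.CoThreeStd.SuzP.Pres Cfsg.Agent.CoThreeStd.SuzP.Model
  Cfsg.Agent.Lib.PermNet Cfsg.Agent.Lib.PermNetOrbit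

open Cfsg.Agent.SporadicRecognition.SuzPhi (φ net net_ok gp φ_of φ_word wd_ok)
open Cfsg.Agent.SporadicRecognition.SuzOrder (card_Suz eq_one_of_fix φ_injective step7 step6 step5 step4 el
  simple finiteSuz)

/-- the generators of the presented Suzuki group as words in the letters of `P` -/
def wz : Suz.Gen → List Lt
  | .a => [.r, .c, .b, .y, .r, .b, .d, .b, .r, .p, .q, .b, .d, .b, .c, .b, .p, .q]
  | .b => [.p, .r, .D, .b, .q, .D, .b, .q, .r, .q, .y, .b, .D, .s, .q, .b, .d, .r, .p]
  | .c => [.y, .b, .p, .q, .b, .c, .D, .b, .c, .r, .q, .p, .b, .d, .b, .p, .q, .y]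
  | .d => [.p, .b, .y, .D, .b, .y, .r, .b, .s, .d, .b, .D, .r, .s, .b, .q, .y, .b, .p]
  | .e => [.s, .d, .b, .p, .b, .q, .d, .b, .s, .q, .p, .b, .D, .q, .r, .y, .b, .p]
  | .f => [.q, .p, .d, .b, .p, .d, .b, .p, .r, .b, .D, .p, .b, .D, .p, .q]
  | .g => [.p, .b, .y, .b, .p, .D, .b, .p, .r, .b, .d, .p, .b, .y, .b, .p]

noncomputable def chkG (x : Suz.Gen) : Bool :=
  and (allB 1782 fun p => Nat.beq ((net x).pt p) (pt tbl (wz x) p))
    (allB 266 fun i => Nat.beq ((net x).pt (Nat.add i 1782)) (Nat.add i 1782))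

theorem chk_a : chkG .a = true := by decide +kernel
theorem chk_b : chkG .b = true := by decide +kernel
theorem chk_c : chkG .c = true := by decide +kernel
theorem chk_d : chkG .d = true := by decide +kernel
theorem chk_e : chkG .e = true := by decide +kernel
theorem chk_f : chkG .f = true := by decide +kernel
theorem chk_g : chkG .g = true := by decide +kernel

theorem chk (x : Suz.Gen) : chkG x = true := by
  cases x
  · exact chk_a
  · exact chk_b
  · exact chk_c
  · exact chk_d
  · exact chk_e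
  · exact chk_f
  · exact chk_g

theorem gp_eq (x : Suz.Gen) : gp x = ψ (Pres.wd (wz x)) := by
  have h := chk x
  rw [chkG, Bool.and_eq_true] at h
  ext p
  rcases Nat.lt_or_ge p 1782 with hp | hp
  · rw [ψ_wd _ hp, gp, ← Net.pt_eq (net_ok x)]
    exact Nat.eq_of_beq_eq_true (allB_spec h.1 p hp)
  · rw [ψ_wd', good.word_fix _ hp]
    rcases Nat.lt_or_ge p (2 ^ 11) with hp' | hp'
    · have h1 := Nat.eq_of_beq_eq_true (allB_spec h.2 (p - 1782) (by norm_num at hp'; omega))
      have h2 : Nat.add (p - 1782) 1782 = p := Nat.sub_add_cancel hp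
      rw [h2, Net.pt_eq (net_ok x)] at h1
      exact h1
    · exact perm_eq_of_le (net_ok x) hp'

/-- The image of `P` contains the Suzuki group. -/
theorem range_le : φ.range ≤ ψ.range := by
  rw [MonoidHom.range_eq_map, ← PresentedGroup.closure_range_of, MonoidHom.map_closure, Subgroup.closure_le]
  rintro _ ⟨_, ⟨x, rfl⟩, rfl⟩
  exact ⟨Pres.wd (wz x), by rw [φ_of, gp_eq]⟩

/-- the element `u` of `P` that fixes four of the base points -/
def wu : List Lt := [.p, .q, .b, .r, .c, .q, .b, .p, .D, .b, .q, .c, .r, .b, .p, .t]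

/-- At most three images of `14` under the elements of the Suzuki group fixing four points. -/
theorem no_four {x : Suz} (h : ∀ q ∈ [98, 1, 1575, 0], φ x q = q) : φ x 14 ≠ 580 := by
  intro h14
  have : Finite Suz := finiteSuz
  let w3 : List Suz.Gen := [.d, .c, .d, .b, .c, .d, .c, .b, .a, .b, .c, .d, .a, .b, .c, .b, .a, .b, .a]
  have hw : ∀ (w : List Suz.Gen) (p : ℕ), φ (el w) p = ptWord (SporadicRecognition.SuzPhi.wd w) p := by
    intro w p
    rw [ptWord_eq (wd_ok w), SporadicRecognition.SuzOrder.φ_el]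
  have hfix : ∀ q ∈ [98, 1, 1575, 0], φ (el w3) q = q := by
    intro q hq
    simp only [List.mem_cons, List.not_mem_nil, or_false] at hq
    rcases hq with rfl | rfl | rfl | rfl <;> rw [hw] <;> decide +kernel
  have h1 : φ (el w3) 14 = 1085 := by rw [hw]; decide +kernel
  have h2 : φ (el w3) 1085 = 963 := by rw [hw]; decide +kernel
  have hs := stabL_step φ [98, 1, 1575, 0] 14 {14, 1085, 963, 580} (by
    intro q hq
    simp only [Finset.mem_insert, Finset.mem_singleton] at hq
    rcases hq with rfl | rfl | rfl | rfl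
    · exact ⟨1, Subgroup.one_mem _, by simp⟩
    · exact ⟨el w3, hfix, h1⟩
    · refine ⟨el w3 * el w3, Subgroup.mul_mem _ hfix hfix, ?_⟩
      rw [map_mul, Equiv.Perm.mul_apply, h1, h2]
    · exact ⟨x, h, h14⟩)
  have hc : ({14, 1085, 963, 580} : Finset ℕ).card = 4 := by decide
  rw [hc] at hs
  have h7 := step7
  have h6 := step6
  have h5 := step5
  have h4 := step4
  have h0 : Nat.card (stabL φ []) ≤ Nat.card Suz :=
    Nat.card_le_card_of_injective _ (Subtype.val_injective)
  have hpos : 0 < Nat.card (stabL φ [14, 98, 1, 1575, 0]) := Nat.card_pos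
  rw [card_Suz] at h0
  omega

theorem u_fix : ∀ q ∈ [98, 1, 1575, 0], ψ (Pres.wd wu) q = q := by
  intro q hq
  simp only [List.mem_cons, List.not_mem_nil, or_false] at hq
  rcases hq with rfl | rfl | rfl | rfl <;> rw [ψ_wd _ (by norm_num)] <;> decide +kernel

theorem u_14 : ψ (Pres.wd wu) 14 = 580 := by
  rw [ψ_wd _ (by norm_num)]; decide +kernel

theorem u_not_mem : ψ (Pres.wd wu) ∉ φ.range := by
  rintro ⟨x, hx⟩
  exact no_four (x := x) (fun q hq => by rw [hx]; exact u_fix q hq) (by rw [hx]; exact u_14)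

end Cfsg.Agent.CoThreeStd.SuzP.Link
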