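import Cfsg.Agent.CoThreeStd.SuzP.Pres

/-!
# The action of `P` on 1782 points
-/

set_option autoImplicit false
set_option maxRecDepth 100000
set_option Elab.async false

namespace Cfsg.Agent.CoThreeStd.SuzP.Model

open Cfsg.Agent.CoThreeStd.SuzP.Data Cfsg.Agent.CoThreeStd.SuzP.Tab Cfsg.Agent.CoThreeStd.SuzP.Pres

/-- the formal inverse of a letter -/
def iv : Lt → Lt
  | .y => .y | .p => .p | .q => .q | .r => .r | .s => .s | .b => .b | .c => .c | .t => .t
  | .d => .D | .D => .d

theorem ok_y : okT 1782 (tbl .y) (tbl .y) = true := by decide +kernel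
theorem ok_p : okT 1782 (tbl .p) (tbl .p) = true := by decide +kernel
theorem ok_q : okT 1782 (tbl .q) (tbl .q) = true := by decide +kernel
theorem ok_r : okT 1782 (tbl .r) (tbl .r) = true := by decide +kernel
theorem ok_s : okT 1782 (tbl .s) (tbl .s) = true := by decide +kernel
theorem ok_b : okT 1782 (tbl .b) (tbl .b) = true := by decide +kernel
theorem ok_c : okT 1782 (tbl .c) (tbl .c) = true := by decide +kernel
theorem ok_t : okT 1782 (tbl .t) (tbl .t) = true := by decide +kernel
theorem ok_d : okT 1782 (tbl .d) (tbl .D) = true := by decide +kernel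
theorem ok_D : okT 1782 (tbl .D) (tbl .d) = true := by decide +kernel

theorem ok (x : Lt) : okT 1782 (tbl x) (tbl (iv x)) = true := by
  cases x
  · exact ok_y
  · exact ok_p
  · exact ok_q
  · exact ok_r
  · exact ok_s
  · exact ok_b
  · exact ok_c
  · exact ok_t
  · exact ok_d
  · exact ok_D

theorem iv_iv (x : Lt) : iv (iv x) = x := by cases x <;> rfl

theorem ok' (x : Lt) : okT 1782 (tbl (iv x)) (tbl x) = true := by
  have h := ok (iv x)
  rwa [iv_iv] at h

/-- the permutation of a letter -/
noncomputable def lp (x : Lt) : Equiv.Perm ℕ := perm 1782 (tbl x) (tbl (iv x)) (ok x) (ok' x)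

theorem good : Good 1782 tbl lp where
  lt x p hp := by rw [lp, perm_apply _ _ hp]; exact (okT_spec (ok x) hp).1
  eq x p hp := by rw [lp, perm_apply _ _ hp]
  fix x p hp := by rw [lp, perm_apply_of_le _ _ hp]

/-- the relator acts trivially -/
noncomputable def chk (w : List Lt) : Bool := allB 1782 fun p => Nat.beq (pt tbl w p) p

theorem rels_chk : allL chk rels = true := by decide +kernel

/-- the action -/
noncomputable def ψ : P →* Equiv.Perm ℕ := toHom lp fun _ hw => good.word_eq_one (allL_spec rels_chk _ hw)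

theorem ψ_ge (x : Lt) : ψ (ge x) = lp x := toHom_ge _ _ x

theorem ψ_wd' (w : List Lt) : ψ (wd w) = (w.map lp).prod := toHom_wd _ _ w

theorem ψ_wd (w : List Lt) {p : ℕ} (hp : p < 1782) : ψ (wd w) p = pt tbl w p := by
  rw [ψ_wd', good.word w hp]

theorem ψ_lt (g : P) {p : ℕ} (hp : p < 1782) : ψ g p < 1782 := by
  have hg : g ∈ Subgroup.closure (Set.range ge) := by rw [closure_ge]; trivial
  induction hg using Subgroup.closure_induction_left with
  | one => rw [map_one]; exact hp
  | mul_left x hx g _ ih =>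
    obtain ⟨x, rfl⟩ := hx
    rw [map_mul, Equiv.Perm.mul_apply, ψ_ge]
    exact good.lt _ _ ih
  | inv_mul_cancel x hx g _ ih =>
    obtain ⟨x, rfl⟩ := hx
    rw [map_mul, Equiv.Perm.mul_apply, map_inv, ψ_ge]
    have : (lp x)⁻¹ = lp (iv x) := by
      refine inv_eq_of_mul_eq_one_right ?_
      ext p
      exact tf_tf (ok (iv x)) p |> fun h => by rw [iv_iv] at h; exact h
    rw [this]
    exact good.lt _ _ ih

end Cfsg.Agent.CoThreeStd.SuzP.Model
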