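import Cfsg.Agent.CoThreeStd.SuzP.Link

/-!
# The order of `P`, its base, its normal subgroups

Everything follows from the upper bound `UB : Finite P ∧ |P| ≤ 2 |Suz|`.
-/

set_option autoImplicit false
set_option maxRecDepth 100000
set_option Elab.async false

namespace Cfsg.Agent.CoThreeStd.SuzP.Order

open Cfsg.Spor Cfsg.Agent.CoThreeStd.SuzP.Data Cfsg.Agent.CoThreeStd.SuzP.Tab
  Cfsg.Agent.CoThreeStd.SuzP.Pres Cfsg.Agent.CoThreeStd.SuzP.Model Cfsg.Agent.CoThreeStd.SuzP.Link

open Cfsg.Agent.SporadicRecognition.SuzPhi (φ)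
open Cfsg.Agent.SporadicRecognition.SuzOrder (card_Suz eq_one_of_fix φ_injective simple finiteSuz)

/-- the upper bound for the order of `P` -/
def UB : Prop := Finite P ∧ Nat.card P ≤ 896690995200

theorem card_φ_range : Nat.card φ.range = 448345497600 := by
  rw [← card_Suz]
  exact (Nat.card_congr (φ.ofInjective φ_injective).toEquiv).symm

theorem card_range_ge (h : UB) : 896690995200 ≤ Nat.card ψ.range := by
  have : Finite P := h.1
  have : Finite ψ.range := Finite.of_surjective ψ.rangeRestrict ψ.rangeRestrict_surjective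
  have h1 : Nat.card φ.range ∣ Nat.card ψ.range := Subgroup.card_dvd_of_le range_le
  have h2 : Nat.card φ.range ≠ Nat.card ψ.range := by
    intro he
    have : φ.range = ψ.range := Subgroup.eq_of_le_of_card_ge range_le he.ge
    exact u_not_mem (by rw [this]; exact ⟨_, rfl⟩)
  rw [card_φ_range] at h1 h2
  obtain ⟨k, hk⟩ := h1
  have hpos : 0 < Nat.card ψ.range := Nat.card_pos
  rw [hk] at hpos h2 ⊢
  rcases k with _ | _ | k
  · omega
  · omega
  · omega

theorem card_P (h : UB) : Nat.card P = 896690995200 := by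
  have : Finite P := h.1
  have h1 := card_range_ge h
  have h2 : Nat.card ψ.range ≤ Nat.card P :=
    Nat.card_le_card_of_surjective ψ.rangeRestrict ψ.rangeRestrict_surjective
  exact le_antisymm h.2 (h1.trans h2)

theorem ψ_injective (h : UB) : Function.Injective ψ := by
  have : Finite P := h.1
  have h1 := card_range_ge h
  have h2 := card_P h
  have h3 : Nat.card ψ.ker * Nat.card ψ.range = Nat.card P := by
    rw [← Subgroup.card_mul_index ψ.ker, Subgroup.index_ker]
  have h4 : Nat.card ψ.ker = 1 := by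
    have hpos : 0 < Nat.card ψ.ker := Nat.card_pos
    rw [h2] at h3
    rcases Nat.lt_or_ge (Nat.card ψ.ker) 2 with h5 | h5
    · omega
    · have : 2 * 896690995200 ≤ Nat.card ψ.ker * Nat.card ψ.range := Nat.mul_le_mul h5 h1
      omega
  rw [← MonoidHom.ker_eq_bot_iff]
  exact Subgroup.eq_bot_of_card_eq _ h4

theorem card_ψ_range (h : UB) : Nat.card ψ.range = 896690995200 := by
  rw [← card_P h]
  exact (Nat.card_congr (ψ.ofInjective (ψ_injective h)).toEquiv).symm

/-- the sign of a letter -/
def sg : Lt → ℤˣ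
  | .t => -1
  | _ => 1

theorem sg_rel : ∀ w ∈ rels, (w.map sg).prod = 1 := by decide

/-- the sign character -/
def χ : P →* ℤˣ := toHom sg sg_rel

theorem χ_ge (x : Lt) : χ (ge x) = sg x := toHom_ge _ _ x

theorem χ_wd (w : List Lt) : χ (wd w) = (w.map sg).prod := toHom_wd _ _ w

theorem χ_surjective : Function.Surjective χ := by
  intro z
  rcases Int.units_eq_one_or z with rfl | rfl
  · exact ⟨1, map_one _⟩
  · exact ⟨ge .t, χ_ge _⟩

theorem index_ker : χ.ker.index = 2 := by
  rw [Subgroup.index_ker, MonoidHom.range_eq_top.2 χ_surjective, Subgroup.card_top, Nat.card_eq_fintype_card]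
  rfl

theorem card_ker (h : UB) : Nat.card χ.ker = 448345497600 := by
  have h1 := Subgroup.card_mul_index χ.ker
  rw [index_ker, card_P h] at h1
  omega

/-- a simple noncommutative group has no nontrivial homomorphism to a commutative group -/
theorem hom_trivial (f : Suz →* ℤˣ) (x : Suz) : f x = 1 := by
  have := simple
  have : Finite Suz := finiteSuz
  rcases (inferInstance : f.ker.Normal).eq_bot_or_eq_top with h | h
  · have h1 : Function.Injective f := (MonoidHom.ker_eq_bot_iff f).1 h
    have h2 := Nat.card_le_card_of_injective f h1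
    rw [card_Suz, Nat.card_eq_fintype_card] at h2
    have h3 : Fintype.card ℤˣ = 2 := rfl
    omega
  · have : x ∈ f.ker := by rw [h]; trivial
    exact this

/-- the Suzuki group inside `P` -/
noncomputable def j (h : UB) : Suz →* P :=
  ((ψ.ofInjective (ψ_injective h)).symm.toMonoidHom).comp
    ((Subgroup.inclusion range_le).comp φ.rangeRestrict)

theorem ψ_j (h : UB) (x : Suz) : ψ (j h x) = φ x := by
  have h1 := (ψ.ofInjective (ψ_injective h)).apply_symm_apply
    (Subgroup.inclusion range_le (φ.rangeRestrict x))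
  exact congrArg Subtype.val h1

theorem j_injective (h : UB) : Function.Injective (j h) := by
  intro x y e
  apply φ_injective
  rw [← ψ_j h, ← ψ_j h, e]

theorem range_j (h : UB) : (j h).range = χ.ker := by
  have : Finite P := h.1
  have h1 : (j h).range ≤ χ.ker := by
    rintro _ ⟨x, rfl⟩
    exact hom_trivial (χ.comp (j h)) x
  apply Subgroup.eq_of_le_of_card_ge h1
  rw [card_ker h, ← card_Suz]
  exact (Nat.card_congr ((j h).ofInjective (j_injective h)).toEquiv).le

theorem mem_range_iff (h : UB) (x : P) : ψ x ∈ φ.range ↔ χ x = 1 := by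
  constructor
  · rintro ⟨y, hy⟩
    have : x = j h y := ψ_injective h (by rw [ψ_j, hy])
    rw [this]
    exact hom_trivial (χ.comp (j h)) y
  · intro hx
    have : x ∈ (j h).range := by rw [range_j]; exact hx
    obtain ⟨y, rfl⟩ := this
    exact ⟨y, (ψ_j h y).symm⟩

/-- `14, 98, 1, 1575, 0` is a base. -/
theorem eq_one_of_base (h : UB) {x : P} (hx : ∀ q ∈ [14, 98, 1, 1575, 0], ψ x q = q) : x = 1 := by
  rcases Int.units_eq_one_or (χ x) with hc | hc
  · obtain ⟨y, hy⟩ := (mem_range_iff h x).2 hc
    have : y = 1 := eq_one_of_fix (x := y) fun q hq => by rw [hy]; exact hx q hq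
    apply ψ_injective h
    rw [map_one, ← hy, this, map_one]
  · exfalso
    have h1 : χ (Pres.wd wu) = -1 := by rw [χ_wd]; decide
    have h2 : χ (Pres.wd wu * x) = 1 := by rw [map_mul, h1, hc]; rfl
    obtain ⟨y, hy⟩ := (mem_range_iff h _).2 h2
    refine no_four (x := y) (fun q hq => ?_) ?_
    · rw [hy, map_mul, Equiv.Perm.mul_apply, hx q (List.mem_cons_of_mem _ hq), u_fix q hq]
    · rw [hy, map_mul, Equiv.Perm.mul_apply, hx 14 (by simp), u_14]

theorem eq_of_base (h : UB) {x y : P} (hx : ∀ q ∈ [14, 98, 1, 1575, 0], ψ x q = ψ y q) : x = y := by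
  have : y⁻¹ * x = 1 := by
    apply eq_one_of_base h
    intro q hq
    rw [map_mul, map_inv, Equiv.Perm.mul_apply, hx q hq]
    exact Equiv.Perm.inv_eq_iff_eq.2 rfl
  exact (inv_mul_eq_one.1 this).symm

end Cfsg.Agent.CoThreeStd.SuzP.Order
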