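import Cfsg.Agent.CoThreeStd.SuzP.Syl

/-!
# The outer involutions of `P` are conjugate to `t` or to `t y`
-/

set_option autoImplicit false
set_option maxRecDepth 100000
set_option Elab.async false

namespace Cfsg.Agent.CoThreeStd.SuzP.Outer

open Cfsg.Agent.CoThreeStd.SuzP.Data Cfsg.Agent.CoThreeStd.SuzP.Tab
  Cfsg.Agent.CoThreeStd.SuzP.Pres Cfsg.Agent.CoThreeStd.SuzP.Model Cfsg.Agent.CoThreeStd.SuzP.Order
  Cfsg.Agent.CoThreeStd.SuzP.SylD Cfsg.Agent.CoThreeStd.SuzP.Syl
open Cfsg.Agent.Lib.PermNet (seq seq_eq seqB seqB_eq tb tb_eq)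
open scoped Pointwise

theorem X_mul_X (h : UB) {a b c d : ℕ}
    (hc : allL (fun q => Nat.beq (nf Es a (nf Es b q)) (nf Es c (nf Es d q))) B5 = true) :
    X a * X b = X c * X d := by
  apply eq_of_B5 h
  intro q hq
  have hq' := B5_lt hq
  rw [map_mul, map_mul, Equiv.Perm.mul_apply, Equiv.Perm.mul_apply, ψ_X _ (ψ_lt _ hq'), ψ_X _ hq',
    ψ_X _ (ψ_lt _ hq'), ψ_X _ hq']
  exact Nat.eq_of_beq_eq_true (allL_spec hc q hq)

theorem X_mul_wd (h : UB) {a : ℕ} {w w' : List Lt}
    (hc : allL (fun q => Nat.beq (nf Es a (pt tbl w q)) (pt tbl w' q)) B5 = true) :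
    X a * Pres.wd w = Pres.wd w' := by
  apply eq_of_B5 h
  intro q hq
  have hq' := B5_lt hq
  rw [map_mul, Equiv.Perm.mul_apply, ψ_X _ (ψ_lt _ hq'), ψ_wd _ hq', ψ_wd _ hq']
  exact Nat.eq_of_beq_eq_true (allL_spec hc q hq)

theorem rep0 (h : UB) : X 1 = ge .t := by
  have := X_mul_wd h (a := 1) (w := []) (w' := [.t]) (by decide +kernel)
  simpa [Pres.wd] using this

theorem rep1 (h : UB) : X 5 = ge .t * ge .y := by
  have := X_mul_wd h (a := 5) (w := []) (w' := [.t, .y]) (by decide +kernel)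
  simpa [Pres.wd] using this

theorem rep2 (h : UB) : IsConj (X 21) (ge .t * ge .y) := by
  have h1 := X_mul_wd h (a := 21) (w := [.d, .b, .p, .b, .y, .q, .p, .b])
    (w' := [.d, .b, .p, .b, .y, .q, .p, .b, .t, .y]) (by decide +kernel)
  have h2 : Pres.wd [.d, .b, .p, .b, .y, .q, .p, .b, .t, .y] =
      Pres.wd [.d, .b, .p, .b, .y, .q, .p, .b] * (ge .t * ge .y) := by
    simp [Pres.wd, mul_assoc]
  rw [h2] at h1
  refine isConj_iff.2 ⟨(Pres.wd [.d, .b, .p, .b, .y, .q, .p, .b])⁻¹, ?_⟩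
  rw [inv_inv, mul_assoc, h1, inv_mul_cancel_left]

theorem rep3 (h : UB) : IsConj (X 37) (ge .t) := by
  have h1 := X_mul_wd h (a := 37) (w := [.d]) (w' := [.d, .t]) (by decide +kernel)
  have h2 : Pres.wd [.d, .t] = Pres.wd [.d] * ge .t := by
    simp [Pres.wd]
  rw [h2] at h1
  refine isConj_iff.2 ⟨(Pres.wd [.d])⁻¹, ?_⟩
  rw [inv_inv, mul_assoc, h1, inv_mul_cancel_left]

theorem rep_conj (h : UB) : ∀ k, IsConj (X (rep k)) (ge .t) ∨ IsConj (X (rep k)) (ge .t * ge .y)
  | 0 => Or.inl (by rw [show rep 0 = 1 from rfl, rep0 h])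
  | 1 => Or.inr (by rw [show rep 1 = 5 from rfl, rep1 h])
  | 2 => Or.inr (rep2 h)
  | _ + 3 => Or.inl (rep3 h)

theorem χ_Xl : ∀ (l : List P) (_ : ∀ x ∈ l, χ x = 1) (a : ℕ), χ (Xl l a) = 1
  | [], _, _ => map_one _
  | x :: xs, hl, a => by
    rw [Xl_cons, map_mul, χ_Xl xs (fun y hy => hl y (List.mem_cons_of_mem _ hy)), mul_one]
    split_ifs
    · exact hl x List.mem_cons_self
    · exact map_one _

theorem χ_tail : ∀ x ∈ (ws.tail.map Pres.wd), χ x = 1 := by
  intro x hx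
  obtain ⟨w, hw, rfl⟩ := List.mem_map.1 hx
  rw [χ_wd]
  exact (by decide : ∀ w ∈ ws.tail, (w.map sg).prod = 1) w hw

theorem χ_X (b : ℕ) : χ (X (2 * b)) = 1 := by
  rw [X]
  show χ (Xl (Pres.wd w0 :: ws.tail.map Pres.wd) (2 * b)) = 1
  rw [(Xl_cons_bit _ _ b).1]
  exact χ_Xl _ χ_tail b

theorem outer_X (h : UB) {b : ℕ} (hb : b < 8192) (hs : X (2 * b + 1) * X (2 * b + 1) = 1) :
    IsConj (X (2 * b + 1)) (ge .t) ∨ IsConj (X (2 * b + 1)) (ge .t * ge .y) := by
  have h1 := allB_spec inv_chk b hb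
  unfold invB at h1
  rw [seqB_eq, seqB_eq] at h1
  have e : Nat.succ (Nat.mul 2 b) = 2 * b + 1 := rfl
  rw [e] at h1
  revert h1
  generalize Nat.land (Nat.shiftRight code (Nat.mul 24 b)) 16777215 = v
  rcases v with _ | v'
  · intro h1
    exfalso
    have h2 : (!allL (fun q => Nat.beq (nf Es (2 * b + 1) (nf Es (2 * b + 1) q)) q) B5) = true := h1
    have h3 : allL (fun q => Nat.beq (nf Es (2 * b + 1) (nf Es (2 * b + 1) q)) q) B5 = true := by
      apply allL_of
      intro q hq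
      have hq' := B5_lt hq
      rw [← ψ_X _ hq', ← ψ_X _ (ψ_lt _ hq'), ← Equiv.Perm.mul_apply, ← map_mul, hs, map_one]
      exact Nat.beq_refl q
    rw [h3] at h2
    exact absurd h2 (by simp)
  · intro h1
    have h2 : (seqB (rep (Nat.land v' 3)) fun r => seqB (Nat.shiftRight v' 2) fun k =>
      allL (fun q => Nat.beq (nf Es (2 * b + 1) (nf Es k q)) (nf Es k (nf Es r q))) B5) = true := h1
    rw [seqB_eq, seqB_eq] at h2
    have h3 := X_mul_X h h2
    have h4 : IsConj (X (2 * b + 1)) (X (rep (Nat.land v' 3))) := by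
      refine isConj_iff.2 ⟨(X (Nat.shiftRight v' 2))⁻¹, ?_⟩
      rw [inv_inv, mul_assoc, h3, inv_mul_cancel_left]
    rcases rep_conj h (Nat.land v' 3) with h5 | h5
    · exact Or.inl (h4.trans h5)
    · exact Or.inr (h4.trans h5)

/-- `S2` as a Sylow subgroup -/
theorem exists_conj_mem (h : UB) {s : P} (hs : s * s = 1) : ∃ g : P, g * s * g⁻¹ ∈ S2 := by
  have : Finite P := h.1
  have hp : Fact (Nat.Prime 2) := ⟨Nat.prime_two⟩
  have hcard : Nat.card S2 = 2 ^ (Nat.card P).factorization 2 := by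
    rw [card_S2 h, card_P h]
    congr 1
    have e : (896690995200 : ℕ) = 2 ^ 14 * 54729675 := by norm_num
    rw [e, Nat.factorization_mul (by norm_num) (by norm_num), Nat.Prime.factorization_pow Nat.prime_two]
    rw [Finsupp.add_apply, Nat.factorization_eq_zero_of_not_dvd (by norm_num : ¬ 2 ∣ 54729675)]
    simp
  let S : Sylow 2 P := Sylow.ofCard S2 hcard
  have h1 : IsPGroup 2 (Subgroup.zpowers s) := by
    rw [IsPGroup.iff_card]
    rcases eq_or_ne s 1 with rfl | hne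
    · exact ⟨0, by rw [Nat.card_zpowers, orderOf_one, pow_zero]⟩
    · exact ⟨1, by rw [Nat.card_zpowers, orderOf_eq_prime (by rw [pow_two, hs]) hne, pow_one]⟩
  obtain ⟨Q, hQ⟩ := h1.exists_le_sylow
  obtain ⟨g, hg⟩ := MulAction.exists_smul_eq P Q S
  refine ⟨g, ?_⟩
  have h2 : MulAut.conj g • s ∈ MulAut.conj g • (Q : Subgroup P) :=
    Subgroup.smul_mem_pointwise_smul _ _ _ (hQ (Subgroup.mem_zpowers s))
  have h3 : ((g • Q : Sylow 2 P) : Subgroup P) = MulAut.conj g • (Q : Subgroup P) := rfl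
  rw [← h3, hg, MulAut.smul_def, MulAut.conj_apply] at h2
  exact h2

/-- **The outer involutions of `P` are conjugate to `t` or to `t y`.** -/
theorem outer (h : UB) {s : P} (hs : s * s = 1) (hc : χ s = -1) :
    IsConj s (ge .t) ∨ IsConj s (ge .t * ge .y) := by
  obtain ⟨g, hg⟩ := exists_conj_mem h hs
  obtain ⟨a, ha, hX⟩ := exists_X h hg
  have h1 : IsConj s (X a) := isConj_iff.2 ⟨g, hX⟩
  have h2 : χ (X a) = -1 := by
    rw [← hX, map_mul, map_mul, map_inv, hc, mul_right_comm, mul_inv_cancel, one_mul]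
  have h3 : X a * X a = 1 := by
    rw [← hX]
    have e : g * s * g⁻¹ * (g * s * g⁻¹) = g * (s * s) * g⁻¹ := by group
    rw [e, hs, mul_one, mul_inv_cancel]
  obtain ⟨b, hb | hb⟩ := Nat.even_or_odd' a
  · rw [hb, χ_X] at h2
    exact absurd h2 (by decide)
  · rw [hb] at h1 h3
    rcases outer_X h (b := b) (by omega) h3 with h4 | h4
    · exact Or.inl (h1.trans h4)
    · exact Or.inr (h1.trans h4)

/-- A nontrivial normal subgroup of `P` contains `y`. -/
theorem mem_of_normal (h : UB) (K : Subgroup P) [K.Normal] (hK : K ≠ ⊥) : ge .y ∈ K := by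
  have : Finite P := h.1
  have hsimp := SporadicRecognition.SuzOrder.simple
  have hy : χ (ge .y) = 1 := χ_ge _
  rcases (inferInstance : (K.comap (j h)).Normal).eq_bot_or_eq_top with h1 | h1
  · exfalso
    -- `K ∩ ker χ = 1`
    have h2 : ∀ k ∈ K, χ k = 1 → k = 1 := by
      intro k hk hc
      have : k ∈ (j h).range := by rw [range_j]; exact hc
      obtain ⟨x, rfl⟩ := this
      have h3 : x ∈ K.comap (j h) := hk
      rw [h1, Subgroup.mem_bot] at h3
      rw [h3, map_one]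
    have h3 : ∀ k ∈ K, ∀ g : P, g * k * g⁻¹ = k := by
      intro k hk g
      have h4 : g * k * g⁻¹ * k⁻¹ ∈ K := K.mul_mem (Subgroup.Normal.conj_mem ‹_› k hk g) (K.inv_mem hk)
      have h5 : χ (g * k * g⁻¹ * k⁻¹) = 1 := by
        rw [map_mul, map_mul, map_mul, map_inv, map_inv, mul_right_comm (χ g), mul_inv_cancel, one_mul,
          mul_inv_cancel]
      exact mul_inv_eq_one.1 (h2 _ h4 h5)
    obtain ⟨k, hk, hk1⟩ : ∃ k ∈ K, k ≠ 1 := by
      by_contra hcon
      push Not at hcon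
      exact hK ((Subgroup.eq_bot_iff_forall K).2 hcon)
    have hc : χ k = -1 := by
      rcases Int.units_eq_one_or (χ k) with hc | hc
      · exact absurd (h2 k hk hc) hk1
      · exact hc
    have hkk : k * k = 1 := h2 _ (K.mul_mem hk hk) (by rw [map_mul, hc]; rfl)
    have h6 : ∀ g : P, ∀ z : P, IsConj k z → z = k := by
      intro _ z hz
      obtain ⟨c, hc⟩ := isConj_iff.1 hz
      rw [← hc, h3 k hk c]
    have hno : ∀ (x : Lt) (w : List Lt), Pres.wd w = k →
        allL (fun q => Nat.beq (pt tbl (x :: w) q) (pt tbl (w ++ [x]) q)) B5 = true := by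
      intro x w hw
      apply allL_of
      intro q hq
      have hq' := B5_lt hq
      rw [← ψ_wd _ hq', ← ψ_wd _ hq', Pres.wd_cons, Pres.wd_append, hw]
      have : ge x * k = k * Pres.wd [x] := by
        have h7 := h3 k hk (ge x)
        rw [mul_inv_eq_iff_eq_mul] at h7
        rw [h7]; simp [Pres.wd]
      rw [this]
      exact Nat.beq_refl _
    rcases outer h hkk hc with h4 | h4
    · have h5 := hno .d [.t] (by rw [← h6 1 _ h4]; simp [Pres.wd])
      exact absurd h5 (by decide +kernel)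
    · have h5 := hno .b [.t, .y] (by rw [← h6 1 _ h4]; simp [Pres.wd])
      exact absurd h5 (by decide +kernel)
  · have h2 : ge .y ∈ (j h).range := by rw [range_j]; exact hy
    obtain ⟨x, hx⟩ := h2
    have h3 : x ∈ K.comap (j h) := by rw [h1]; trivial
    rw [← hx]
    exact h3

end Cfsg.Agent.CoThreeStd.SuzP.Outer
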