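import Cfsg.Agent.CoThreeStd.SuzP.Order
import Cfsg.Agent.CoThreeStd.SuzP.SylD

/-!
# The Sylow 2-subgroup of `P` and its outer involutions
-/

set_option autoImplicit false
set_option maxRecDepth 100000
set_option Elab.async false

namespace Cfsg.Agent.CoThreeStd.SuzP.Syl

open Cfsg.Agent.CoThreeStd.SuzP.Data Cfsg.Agent.CoThreeStd.SuzP.Tab
  Cfsg.Agent.CoThreeStd.SuzP.Pres Cfsg.Agent.CoThreeStd.SuzP.Model Cfsg.Agent.CoThreeStd.SuzP.Order
  Cfsg.Agent.CoThreeStd.SuzP.SylD
open Cfsg.Agent.Lib.PermNet (seq seq_eq seqB seqB_eq tb tb_eq)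

/-- the table `T` is the table of the word `w` -/
noncomputable def chkT (T : ℕ) (w : List Lt) : Bool :=
  allB 1782 fun p => seqB (lk T p) fun q => and (Nat.beq (pt tbl w p) q) (Nat.blt q 1782)

noncomputable def chkTs (Ts : List ℕ) : List (List Lt) → Bool :=
  List.rec (motive := fun _ => List (List Lt) → Bool)
    (fun ws => List.rec (motive := fun _ => Bool) true (fun _ _ _ => false) ws)
    (fun T _ ih ws => List.rec (motive := fun _ => Bool) false (fun w ws' _ => and (chkT T w) (ih ws')) ws) Ts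

theorem chkTs_spec : ∀ (Ts : List ℕ) (ws : List (List Lt)), chkTs Ts ws = true →
    List.Forall₂ (fun T f => (∀ p < 1782, f p < 1782) ∧ ∀ p < 1782, f p = lk T p) Ts
      ((ws.map Pres.wd).map ψ)
  | [], [], _ => List.Forall₂.nil
  | [], _ :: _, h => absurd h (by simp [chkTs])
  | _ :: _, [], h => absurd h (by simp [chkTs])
  | T :: Ts, w :: ws, h => by
    have h' : and (chkT T w) (chkTs Ts ws) = true := h
    rw [Bool.and_eq_true] at h'
    refine List.Forall₂.cons ⟨fun p hp => ψ_lt _ hp, fun p hp => ?_⟩ (chkTs_spec Ts ws h'.2)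
    have h1 := allB_spec h'.1 p hp
    rw [seqB_eq, Bool.and_eq_true] at h1
    rw [ψ_wd _ hp]
    exact Nat.eq_of_beq_eq_true h1.1

theorem chk0 : chkT E0 w0 = true := by decide +kernel
theorem chk1 : chkT E1 w1 = true := by decide +kernel
theorem chk2 : chkT E2 w2 = true := by decide +kernel
theorem chk3 : chkT E3 w3 = true := by decide +kernel
theorem chk4 : chkT E4 w4 = true := by decide +kernel
theorem chk5 : chkT E5 w5 = true := by decide +kernel
theorem chk6 : chkT E6 w6 = true := by decide +kernel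
theorem chk7 : chkT E7 w7 = true := by decide +kernel
theorem chk8 : chkT E8 w8 = true := by decide +kernel
theorem chk9 : chkT E9 w9 = true := by decide +kernel
theorem chk10 : chkT E10 w10 = true := by decide +kernel
theorem chk11 : chkT E11 w11 = true := by decide +kernel
theorem chk12 : chkT E12 w12 = true := by decide +kernel
theorem chk13 : chkT E13 w13 = true := by decide +kernel

theorem chkEs : chkTs Es ws = true := by
  show and (chkT E0 w0) (and (chkT E1 w1) (and (chkT E2 w2) (and (chkT E3 w3) (and (chkT E4 w4)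
    (and (chkT E5 w5) (and (chkT E6 w6) (and (chkT E7 w7) (and (chkT E8 w8) (and (chkT E9 w9)
    (and (chkT E10 w10) (and (chkT E11 w11) (and (chkT E12 w12) (and (chkT E13 w13) true))))))))))))) = true
  rw [chk0, chk1, chk2, chk3, chk4, chk5, chk6, chk7, chk8, chk9, chk10, chk11, chk12, chk13]
  rfl

/-- the generators of the Sylow group -/
def ls : List P := ws.map Pres.wd

/-- the normal form elements -/
def X (a : ℕ) : P := Xl ls a

theorem ψ_X (a : ℕ) {p : ℕ} (hp : p < 1782) : ψ (X a) p = nf Es a p := by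
  rw [X, Xl_map]
  exact (nf_spec Es _ (chkTs_spec _ _ chkEs) a hp).2

/-- the base points (in the order of the tests) -/
def B5 : List ℕ := [1, 1575, 14, 98, 0]

theorem B5_lt {q : ℕ} (h : q ∈ B5) : q < 1782 := by
  simp only [B5, List.mem_cons, List.not_mem_nil, or_false] at h
  rcases h with rfl | rfl | rfl | rfl | rfl <;> norm_num

theorem eq_of_B5 (h : UB) {x y : P} (hx : ∀ q ∈ B5, ψ x q = ψ y q) : x = y := by
  apply eq_of_base h
  intro q hq
  apply hx
  simp only [B5, List.mem_cons, List.not_mem_nil, or_false] at hq ⊢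
  tauto

/-- `x` acts as the table `T`. -/
def R (T : ℕ) (x : P) : Prop := (∀ p < 1782, ψ x p < 1782) ∧ ∀ p < 1782, ψ x p = lk T p

theorem R_list {Ts : List ℕ} {l : List P} (h : List.Forall₂ R Ts l) :
    List.Forall₂ (fun T f => (∀ p < 1782, f p < 1782) ∧ ∀ p < 1782, f p = lk T p) Ts (l.map ψ) := by
  induction h with
  | nil => exact List.Forall₂.nil
  | cons h1 _ ih => exact List.Forall₂.cons h1 ih

theorem ψ_Xl {Ts : List ℕ} {l : List P} (h : List.Forall₂ R Ts l) (a : ℕ) {p : ℕ} (hp : p < 1782) :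
    ψ (Xl l a) p = nf Ts a p := by
  rw [Xl_map]
  exact (nf_spec Ts _ (R_list h) a hp).2

/-- `T T' = X v T` for all `T'` in the list -/
noncomputable def rowB (T : ℕ) (Ts : List ℕ) : List ℕ → List ℕ → Bool
  | [], _ => true
  | _ :: _, [] => false
  | T' :: r, v :: c => and (allL (fun q => Nat.beq (lk T (lk T' q)) (nf Ts v (lk T q))) B5) (rowB T Ts r c)

/-- the certificate of a polycyclic sequence -/
noncomputable def chkPC : List ℕ → List ℕ → List (List ℕ) → Bool
  | [], _, _ => true
  | _ :: _, [], _ => false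
  | _ :: _, _ :: _, [] => false
  | T :: Ts, s :: sqs, c :: cjs =>
    and (allL (fun q => Nat.beq (lk T (lk T q)) (nf Ts s q)) B5) (and (rowB T Ts Ts c) (chkPC Ts sqs cjs))

theorem rowB_spec (h : UB) {T : ℕ} {x : P} (hx : R T x) {Ts : List ℕ} {l : List P}
    (hl : List.Forall₂ R Ts l) : ∀ (r : List ℕ) (m : List P), List.Forall₂ R r m → ∀ c, rowB T Ts r c = true →
      ∀ y ∈ m, ∃ a, x * y = Xl l a * x
  | [], [], _, _, _, y, hy => absurd hy (by simp)
  | T' :: r, y' :: m, hm, [], hc, _, _ => absurd hc (by simp [rowB])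
  | T' :: r, y' :: m, hm, v :: c, hc, y, hy => by
    cases hm with
    | cons h1 h2 =>
      have hc' : and (allL (fun q => Nat.beq (lk T (lk T' q)) (nf Ts v (lk T q))) B5) (rowB T Ts r c) = true := hc
      rw [Bool.and_eq_true] at hc'
      rcases List.mem_cons.1 hy with rfl | hy
      · refine ⟨v, eq_of_B5 h fun q hq => ?_⟩
        have hq' := B5_lt hq
        rw [map_mul, map_mul, Equiv.Perm.mul_apply, Equiv.Perm.mul_apply, hx.2 _ (h1.1 _ hq'), h1.2 _ hq',
          ψ_Xl hl v (hx.1 _ hq'), hx.2 _ hq']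
        exact Nat.eq_of_beq_eq_true (allL_spec hc'.1 q hq)
      · exact rowB_spec h hx hl r m h2 c hc'.2 y hy

theorem chkPC_spec (h : UB) : ∀ (Ts : List ℕ) (l : List P), List.Forall₂ R Ts l → ∀ sqs cjs,
    chkPC Ts sqs cjs = true → PC l
  | [], [], _, _, _, _ => trivial
  | T :: Ts, x :: l, hl, [], _, hc => absurd hc (by simp [chkPC])
  | T :: Ts, x :: l, hl, _ :: _, [], hc => absurd hc (by simp [chkPC])
  | T :: Ts, x :: l, hl, s :: sqs, c :: cjs, hc => by
    cases hl with
    | cons h1 h2 =>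
      have hc' : and (allL (fun q => Nat.beq (lk T (lk T q)) (nf Ts s q)) B5)
        (and (rowB T Ts Ts c) (chkPC Ts sqs cjs)) = true := hc
      rw [Bool.and_eq_true, Bool.and_eq_true] at hc'
      refine ⟨⟨s, eq_of_B5 h fun q hq => ?_⟩, rowB_spec h h1 h2 Ts l h2 c hc'.2.1,
        chkPC_spec h Ts l h2 sqs cjs hc'.2.2⟩
      have hq' := B5_lt hq
      rw [map_mul, Equiv.Perm.mul_apply, h1.2 _ (h1.1 _ hq'), h1.2 _ hq', ψ_Xl h2 s hq']
      exact Nat.eq_of_beq_eq_true (allL_spec hc'.1 q hq)

theorem R_of_map : ∀ {Ts : List ℕ} {l : List P},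
    List.Forall₂ (fun T f => (∀ p < 1782, f p < 1782) ∧ ∀ p < 1782, f p = lk T p) Ts (l.map ψ) →
    List.Forall₂ R Ts l
  | [], [], _ => List.Forall₂.nil
  | [], _ :: _, h => by cases h
  | _ :: _, [], h => by cases h
  | _ :: _, _ :: _, h => by
    cases h with
    | cons h1 h2 => exact List.Forall₂.cons h1 (R_of_map h2)

theorem Rls : List.Forall₂ R Es ls := R_of_map (chkTs_spec _ _ chkEs)

theorem chkPC_Es : chkPC Es SylD.sq cj = true := by decide +kernel

theorem PC_ls (h : UB) : PC ls := chkPC_spec h Es ls Rls SylD.sq cj chkPC_Es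

/-- `X a` moves a base point -/
noncomputable def movB (a : ℕ) : Bool := not (allL (fun q => Nat.beq (nf Es a q) q) B5)

theorem mov_chk : allB 16384 (fun a => or (Nat.beq a 0) (movB a)) = true := by decide +kernel

theorem ls_length : ls.length = 14 := rfl

theorem X_eq_one {a : ℕ} (ha : a < 2 ^ ls.length) (hX : X a = 1) : a = 0 := by
  have h1 := allB_spec mov_chk a ha
  rw [Bool.or_eq_true] at h1
  rcases h1 with h1 | h1
  · exact Nat.eq_of_beq_eq_true h1
  · exfalso
    have : allL (fun q => Nat.beq (nf Es a q) q) B5 = true := by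
      apply allL_of
      intro q hq
      rw [← ψ_X a (B5_lt hq), hX, map_one]
      exact Nat.beq_refl q
    unfold movB at h1
    rw [this] at h1
    exact absurd h1 (by simp)

/-- the Sylow 2-subgroup -/
def S2 : Subgroup P := Subgroup.closure {x | x ∈ ls}

theorem card_S2 (h : UB) : Nat.card S2 = 2 ^ 14 := by
  have : Finite P := h.1
  exact card_closure (PC_ls h) fun a ha hX => X_eq_one ha hX

theorem exists_X (h : UB) {g : P} (hg : g ∈ S2) : ∃ a < 16384, g = X a := by
  have : Finite P := h.1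
  exact exists_nf ls (PC_ls h) g hg

/-! ### The outer involutions -/

/-- words of the representatives -/
def rep : ℕ → ℕ
  | 0 => 1
  | 1 => 5
  | 2 => 21
  | _ => 37

/-- test of the outer element `X (1 + 2 b)` -/
noncomputable def invB (b : ℕ) : Bool :=
  seqB (Nat.land (Nat.shiftRight code (Nat.mul 24 b)) 16777215) fun v =>
  seqB (Nat.succ (Nat.mul 2 b)) fun a =>
  Nat.rec (motive := fun _ => Bool)
    (not (allL (fun q => Nat.beq (nf Es a (nf Es a q)) q) B5))
    (fun v' _ => seqB (rep (Nat.land v' 3)) fun r => seqB (Nat.shiftRight v' 2) fun h =>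
      allL (fun q => Nat.beq (nf Es a (nf Es h q)) (nf Es h (nf Es r q))) B5) v

theorem inv_chk : allB 8192 invB = true := by decide +kernel

end Cfsg.Agent.CoThreeStd.SuzP.Syl
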