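import Cfsg.Agent.CoThreeStd.SuzP.Three

/-!
# The Sylow 2-subgroup of the image of `P`, its outer involutions, its normal subgroups (helper781)

Same certificates as in `Syl`, `Outer`, read in `PB = ψ.range`.
-/

set_option autoImplicit false
set_option maxRecDepth 100000
set_option Elab.async false

namespace Cfsg.Agent.CoThreeStd.SuzP.SylB

open Cfsg.Spor Cfsg.Agent.CoThreeStd.SuzP.Data Cfsg.Agent.CoThreeStd.SuzP.Tab
  Cfsg.Agent.CoThreeStd.SuzP.Pres Cfsg.Agent.CoThreeStd.SuzP.Model Cfsg.Agent.CoThreeStd.SuzP.Order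
  Cfsg.Agent.CoThreeStd.SuzP.SylD Cfsg.Agent.CoThreeStd.SuzP.Syl Cfsg.Agent.CoThreeStd.SuzP.Outer
  Cfsg.Agent.CoThreeStd.SuzP.Three
open Cfsg.Agent.Lib.PermNet (seq seq_eq seqB seqB_eq tb tb_eq)
open Cfsg.Agent.SporadicRecognition.SuzPhi (φ)
open scoped Pointwise

/-- the image of an element -/
noncomputable abbrev rr : P →* PB := ψ.rangeRestrict

theorem rr_val (x : P) : (rr x : Equiv.Perm ℕ) = ψ x := rfl

theorem rr_sur : Function.Surjective rr := ψ.rangeRestrict_surjective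

/-- `x` acts as the table `T`. -/
def RB (T : ℕ) (x : PB) : Prop :=
  (∀ p < 1782, (x : Equiv.Perm ℕ) p < 1782) ∧ ∀ p < 1782, (x : Equiv.Perm ℕ) p = lk T p

theorem RB_list {Ts : List ℕ} {l : List PB} (h : List.Forall₂ RB Ts l) :
    List.Forall₂ (fun T f => (∀ p < 1782, f p < 1782) ∧ ∀ p < 1782, f p = lk T p) Ts (l.map PB.subtype) := by
  induction h with
  | nil => exact List.Forall₂.nil
  | cons h1 _ ih => exact List.Forall₂.cons h1 ih

theorem RB_of_R {Ts : List ℕ} {l : List P} (h : List.Forall₂ R Ts l) : List.Forall₂ RB Ts (l.map rr) := by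
  induction h with
  | nil => exact List.Forall₂.nil
  | cons h1 _ ih => exact List.Forall₂.cons h1 ih

theorem val_Xl {Ts : List ℕ} {l : List PB} (h : List.Forall₂ RB Ts l) (a : ℕ) {p : ℕ} (hp : p < 1782) :
    ((Xl l a : PB) : Equiv.Perm ℕ) p = nf Ts a p := by
  have h1 := (nf_spec Ts _ (RB_list h) a hp).2
  rw [← Xl_map] at h1
  exact h1

theorem rowB_specB (h : HB) {T : ℕ} {x : PB} (hx : RB T x) {Ts : List ℕ} {l : List PB}
    (hl : List.Forall₂ RB Ts l) : ∀ (r : List ℕ) (m : List PB), List.Forall₂ RB r m → ∀ c, rowB T Ts r c = true →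
      ∀ y ∈ m, ∃ a, x * y = Xl l a * x
  | [], [], _, _, _, y, hy => absurd hy (by simp)
  | T' :: r, y' :: m, hm, [], hc, _, _ => absurd hc (by simp [rowB])
  | T' :: r, y' :: m, hm, v :: c, hc, y, hy => by
    cases hm with
    | cons h1 h2 =>
      have hc' : and (allL (fun q => Nat.beq (lk T (lk T' q)) (nf Ts v (lk T q))) B5) (rowB T Ts r c) = true := hc
      rw [Bool.and_eq_true] at hc'
      rcases List.mem_cons.1 hy with rfl | hy
      · refine ⟨v, Three.eq_of_B5 h fun q hq => ?_⟩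
        have hq' := B5_lt hq
        rw [Subgroup.coe_mul, Subgroup.coe_mul, Equiv.Perm.mul_apply, Equiv.Perm.mul_apply, hx.2 _ (h1.1 _ hq'),
          h1.2 _ hq', val_Xl hl v (hx.1 _ hq'), hx.2 _ hq']
        exact Nat.eq_of_beq_eq_true (allL_spec hc'.1 q hq)
      · exact rowB_specB h hx hl r m h2 c hc'.2 y hy

theorem chkPC_specB (h : HB) : ∀ (Ts : List ℕ) (l : List PB), List.Forall₂ RB Ts l → ∀ sqs cjs,
    chkPC Ts sqs cjs = true → PC l
  | [], [], _, _, _, _ => trivial
  | T :: Ts, x :: l, hl, [], _, hc => absurd hc (by simp [chkPC])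
  | T :: Ts, x :: l, hl, _ :: _, [], hc => absurd hc (by simp [chkPC])
  | T :: Ts, x :: l, hl, s :: sqs, c :: cjs, hc => by
    cases hl with
    | cons h1 h2 =>
      have hc' : and (allL (fun q => Nat.beq (lk T (lk T q)) (nf Ts s q)) B5)
        (and (rowB T Ts Ts c) (chkPC Ts sqs cjs)) = true := hc
      rw [Bool.and_eq_true, Bool.and_eq_true] at hc'
      refine ⟨⟨s, Three.eq_of_B5 h fun q hq => ?_⟩, rowB_specB h h1 h2 Ts l h2 c hc'.2.1,
        chkPC_specB h Ts l h2 sqs cjs hc'.2.2⟩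
      have hq' := B5_lt hq
      rw [Subgroup.coe_mul, Equiv.Perm.mul_apply, h1.2 _ (h1.1 _ hq'), h1.2 _ hq', val_Xl h2 s hq']
      exact Nat.eq_of_beq_eq_true (allL_spec hc'.1 q hq)

/-- the generators of the Sylow group -/
noncomputable def lB : List PB := ls.map rr

theorem RlB : List.Forall₂ RB Es lB := RB_of_R Rls

theorem PC_lB (h : HB) : PC lB := chkPC_specB h Es lB RlB SylD.sq cj chkPC_Es

theorem XlB (a : ℕ) : Xl lB a = rr (X a) := by
  rw [lB, ← Xl_map]; rfl

theorem lB_length : lB.length = 14 := rfl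

theorem XB_eq_one {a : ℕ} (ha : a < 2 ^ lB.length) (hX : Xl lB a = 1) : a = 0 := by
  have h1 := allB_spec mov_chk a ha
  rw [Bool.or_eq_true] at h1
  rcases h1 with h1 | h1
  · exact Nat.eq_of_beq_eq_true h1
  · exfalso
    have : allL (fun q => Nat.beq (nf Es a q) q) B5 = true := by
      apply allL_of
      intro q hq
      rw [← ψ_X a (B5_lt hq), ← rr_val, ← XlB, hX]
      exact Nat.beq_refl q
    unfold movB at h1
    rw [this] at h1
    exact absurd h1 (by simp)

/-- the Sylow 2-subgroup -/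
noncomputable def S2B : Subgroup PB := Subgroup.closure {x | x ∈ lB}

theorem card_S2B (h : HB) : Nat.card S2B = 2 ^ 14 := by
  have : Finite PB := h.1
  exact card_closure (PC_lB h) fun a ha hX => XB_eq_one ha hX

theorem exists_XB (h : HB) {g : PB} (hg : g ∈ S2B) : ∃ a < 16384, g = rr (X a) := by
  have : Finite PB := h.1
  obtain ⟨a, ha, h1⟩ := exists_nf lB (PC_lB h) g hg
  exact ⟨a, ha, by rw [h1, XlB]⟩

/-! ### the outer involutions -/

theorem X_mul_X (h : HB) {a b c d : ℕ}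
    (hc : allL (fun q => Nat.beq (nf Es a (nf Es b q)) (nf Es c (nf Es d q))) B5 = true) :
    rr (X a * X b) = rr (X c * X d) := by
  apply Three.eq_of_B5 h
  intro q hq
  have hq' := B5_lt hq
  rw [rr_val, rr_val, map_mul, map_mul, Equiv.Perm.mul_apply, Equiv.Perm.mul_apply, ψ_X _ (ψ_lt _ hq'), ψ_X _ hq',
    ψ_X _ (ψ_lt _ hq'), ψ_X _ hq']
  exact Nat.eq_of_beq_eq_true (allL_spec hc q hq)

theorem X_mul_wd (h : HB) {a : ℕ} {w w' : List Lt}
    (hc : allL (fun q => Nat.beq (nf Es a (pt tbl w q)) (pt tbl w' q)) B5 = true) :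
    rr (X a * Pres.wd w) = rr (Pres.wd w') := by
  apply Three.eq_of_B5 h
  intro q hq
  have hq' := B5_lt hq
  rw [rr_val, rr_val, map_mul, Equiv.Perm.mul_apply, ψ_X _ (ψ_lt _ hq'), ψ_wd _ hq', ψ_wd _ hq']
  exact Nat.eq_of_beq_eq_true (allL_spec hc q hq)

theorem rep0 (h : HB) : rr (X 1) = rr (ge .t) := by
  have := X_mul_wd h (a := 1) (w := []) (w' := [.t]) (by decide +kernel)
  simpa [Pres.wd] using this

theorem rep1 (h : HB) : rr (X 5) = rr (ge .t * ge .y) := by
  have := X_mul_wd h (a := 5) (w := []) (w' := [.t, .y]) (by decide +kernel)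
  simpa [Pres.wd] using this

theorem conj_of {a : PB} {u v : P} (h : a * rr u = rr u * rr v) : IsConj a (rr v) := by
  refine isConj_iff.2 ⟨(rr u)⁻¹, ?_⟩
  rw [inv_inv, mul_assoc, h, inv_mul_cancel_left]

theorem rep2 (h : HB) : IsConj (rr (X 21)) (rr (ge .t * ge .y)) := by
  have h1 := X_mul_wd h (a := 21) (w := [.d, .b, .p, .b, .y, .q, .p, .b])
    (w' := [.d, .b, .p, .b, .y, .q, .p, .b, .t, .y]) (by decide +kernel)
  have h2 : Pres.wd [.d, .b, .p, .b, .y, .q, .p, .b, .t, .y] =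
      Pres.wd [.d, .b, .p, .b, .y, .q, .p, .b] * (ge .t * ge .y) := by
    simp [Pres.wd, mul_assoc]
  rw [h2, map_mul, map_mul] at h1
  exact conj_of h1

theorem rep3 (h : HB) : IsConj (rr (X 37)) (rr (ge .t)) := by
  have h1 := X_mul_wd h (a := 37) (w := [.d]) (w' := [.d, .t]) (by decide +kernel)
  have h2 : Pres.wd [.d, .t] = Pres.wd [.d] * ge .t := by
    simp [Pres.wd]
  rw [h2, map_mul, map_mul] at h1
  exact conj_of h1

theorem rep_conj (h : HB) : ∀ k, IsConj (rr (X (rep k))) (rr (ge .t)) ∨ IsConj (rr (X (rep k))) (rr (ge .t * ge .y))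
  | 0 => Or.inl (by rw [show rep 0 = 1 from rfl, rep0 h])
  | 1 => Or.inr (by rw [show rep 1 = 5 from rfl, rep1 h])
  | 2 => Or.inr (rep2 h)
  | _ + 3 => Or.inl (rep3 h)

theorem outer_X (h : HB) {b : ℕ} (hb : b < 8192) (hs : rr (X (2 * b + 1)) * rr (X (2 * b + 1)) = 1) :
    IsConj (rr (X (2 * b + 1))) (rr (ge .t)) ∨ IsConj (rr (X (2 * b + 1))) (rr (ge .t * ge .y)) := by
  have h1 := allB_spec inv_chk b hb
  unfold invB at h1
  rw [seqB_eq, seqB_eq] at h1
  have e : Nat.succ (Nat.mul 2 b) = 2 * b + 1 := rfl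
  rw [e] at h1
  revert h1
  generalize Nat.land (Nat.shiftRight code (Nat.mul 24 b)) 16777215 = v
  rcases v with _ | v'
  · intro h1
    exfalso
    have h2 : (!allL (fun q => Nat.beq (nf Es (2 * b + 1) (nf Es (2 * b + 1) q)) q) B5) = true := h1
    have h3 : allL (fun q => Nat.beq (nf Es (2 * b + 1) (nf Es (2 * b + 1) q)) q) B5 = true := by
      apply allL_of
      intro q hq
      have hq' := B5_lt hq
      have hs' : ψ (X (2 * b + 1)) * ψ (X (2 * b + 1)) = 1 := congrArg Subtype.val hs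
      rw [← ψ_X _ hq', ← ψ_X _ (ψ_lt _ hq'), ← Equiv.Perm.mul_apply, hs']
      exact Nat.beq_refl q
    rw [h3] at h2
    exact absurd h2 (by simp)
  · intro h1
    have h2 : (seqB (rep (Nat.land v' 3)) fun r => seqB (Nat.shiftRight v' 2) fun k =>
      allL (fun q => Nat.beq (nf Es (2 * b + 1) (nf Es k q)) (nf Es k (nf Es r q))) B5) = true := h1
    rw [seqB_eq, seqB_eq] at h2
    have h3 := X_mul_X h h2
    rw [map_mul, map_mul] at h3
    have h4 : IsConj (rr (X (2 * b + 1))) (rr (X (rep (Nat.land v' 3)))) := conj_of h3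
    rcases rep_conj h (Nat.land v' 3) with h5 | h5
    · exact Or.inl (h4.trans h5)
    · exact Or.inr (h4.trans h5)

/-- `S2B` as a Sylow subgroup -/
theorem exists_conj_mem (h : HB) {s : PB} (hs : s * s = 1) : ∃ g : PB, g * s * g⁻¹ ∈ S2B := by
  have : Finite PB := h.1
  have hp : Fact (Nat.Prime 2) := ⟨Nat.prime_two⟩
  have hcard : Nat.card S2B = 2 ^ (Nat.card PB).factorization 2 := by
    rw [card_S2B h, card_PB h]
    congr 1
    have e : (896690995200 : ℕ) = 2 ^ 14 * 54729675 := by norm_num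
    rw [e, Nat.factorization_mul (by norm_num) (by norm_num), Nat.Prime.factorization_pow Nat.prime_two]
    rw [Finsupp.add_apply, Nat.factorization_eq_zero_of_not_dvd (by norm_num : ¬ 2 ∣ 54729675)]
    simp
  let S : Sylow 2 PB := Sylow.ofCard S2B hcard
  have h1 : IsPGroup 2 (Subgroup.zpowers s) := by
    rw [IsPGroup.iff_card]
    rcases eq_or_ne s 1 with rfl | hne
    · exact ⟨0, by rw [Nat.card_zpowers, orderOf_one, pow_zero]⟩
    · exact ⟨1, by rw [Nat.card_zpowers, orderOf_eq_prime (by rw [pow_two, hs]) hne, pow_one]⟩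
  obtain ⟨Q, hQ⟩ := h1.exists_le_sylow
  obtain ⟨g, hg⟩ := MulAction.exists_smul_eq PB Q S
  refine ⟨g, ?_⟩
  have h2 : MulAut.conj g • s ∈ MulAut.conj g • (Q : Subgroup PB) :=
    Subgroup.smul_mem_pointwise_smul _ _ _ (hQ (Subgroup.mem_zpowers s))
  have h3 : ((g • Q : Sylow 2 PB) : Subgroup PB) = MulAut.conj g • (Q : Subgroup PB) := rfl
  rw [← h3, hg, MulAut.smul_def, MulAut.conj_apply] at h2
  exact h2

/-- **The outer involutions of the image are conjugate to `t` or to `t y`.** -/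
theorem outer (h : HB) {s : P} (hs : rr s * rr s = 1) (hc : χ s = -1) :
    IsConj (rr s) (rr (ge .t)) ∨ IsConj (rr s) (rr (ge .t * ge .y)) := by
  obtain ⟨g, hg⟩ := exists_conj_mem h hs
  obtain ⟨g, rfl⟩ := rr_sur g
  obtain ⟨a, ha, hX⟩ := exists_XB h hg
  rw [← map_inv, ← map_mul, ← map_mul] at hX
  have h1 : IsConj (rr s) (rr (X a)) := isConj_iff.2 ⟨rr g, by rw [← hX, map_mul, map_mul, map_inv]⟩
  have h2 : χ (X a) = -1 := by
    rw [← χ_of_ψ h (congrArg Subtype.val hX), map_mul, map_mul, map_inv, hc, mul_right_comm, mul_inv_cancel, one_mul]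
  have h3 : rr (X a) * rr (X a) = 1 := by
    rw [← hX, map_mul, map_mul, map_inv]
    have e : rr g * rr s * (rr g)⁻¹ * (rr g * rr s * (rr g)⁻¹) = rr g * (rr s * rr s) * (rr g)⁻¹ := by group
    rw [e, hs, mul_one, mul_inv_cancel]
  obtain ⟨b, hb | hb⟩ := Nat.even_or_odd' a
  · rw [hb, χ_X] at h2
    exact absurd h2 (by decide)
  · rw [hb] at h1 h3
    rcases outer_X h (b := b) (by omega) h3 with h4 | h4
    · exact Or.inl (h1.trans h4)
    · exact Or.inr (h1.trans h4)

/-- A nontrivial normal subgroup of the image contains `y`. -/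
theorem mem_of_normal (h : HB) (K : Subgroup PB) [K.Normal] (hK : K ≠ ⊥) : rr (ge .y) ∈ K := by
  have : Finite PB := h.1
  have hsimp := simple_SB
  have hN := normal_SB h
  rcases (inferInstance : (K.subgroupOf SB).Normal).eq_bot_or_eq_top with h1 | h1
  · exfalso
    -- `K ∩ SB = 1`
    have h2 : ∀ k ∈ K, k ∈ SB → k = 1 := by
      intro k hk hc
      have h3 : (⟨k, hc⟩ : SB) ∈ K.subgroupOf SB := hk
      rw [h1, Subgroup.mem_bot] at h3
      exact congrArg Subtype.val h3
    have hcom : ∀ g k : PB, g * k * g⁻¹ * k⁻¹ ∈ SB := by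
      intro g k
      obtain ⟨g, rfl⟩ := rr_sur g
      obtain ⟨k, rfl⟩ := rr_sur k
      rw [← map_inv, ← map_inv, ← map_mul, ← map_mul, ← map_mul]
      apply Subgroup.mem_subgroupOf.2
      apply (mem_range_iff h _).2
      rw [map_mul, map_mul, map_mul, map_inv, map_inv, mul_right_comm (χ g), mul_inv_cancel, one_mul, mul_inv_cancel]
    have h3 : ∀ k ∈ K, ∀ g : PB, g * k * g⁻¹ = k := by
      intro k hk g
      have h4 : g * k * g⁻¹ * k⁻¹ ∈ K := K.mul_mem (Subgroup.Normal.conj_mem ‹_› k hk g) (K.inv_mem hk)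
      exact mul_inv_eq_one.1 (h2 _ h4 (hcom g k))
    obtain ⟨k, hk, hk1⟩ : ∃ k ∈ K, k ≠ 1 := by
      by_contra hcon
      push Not at hcon
      exact hK ((Subgroup.eq_bot_iff_forall K).2 hcon)
    obtain ⟨k, rfl⟩ := rr_sur k
    have hc : χ k = -1 := by
      rcases Int.units_eq_one_or (χ k) with hc | hc
      · exact absurd (h2 _ hk (Subgroup.mem_subgroupOf.2 ((mem_range_iff h _).2 hc))) hk1
      · exact hc
    have hkk : rr k * rr k = 1 := by
      apply h2 _ (K.mul_mem hk hk)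
      rw [← map_mul]
      exact Subgroup.mem_subgroupOf.2 ((mem_range_iff h _).2 (by rw [map_mul, hc]; rfl))
    have h6 : ∀ z : PB, IsConj (rr k) z → z = rr k := by
      intro z hz
      obtain ⟨c, hc⟩ := isConj_iff.1 hz
      rw [← hc, h3 _ hk c]
    have hno : ∀ (x : Lt) (w : List Lt), rr (Pres.wd w) = rr k →
        allL (fun q => Nat.beq (pt tbl (x :: w) q) (pt tbl (w ++ [x]) q)) B5 = true := by
      intro x w hw
      apply allL_of
      intro q hq
      have hq' := B5_lt hq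
      have e1 : rr (Pres.wd (x :: w)) = rr (Pres.wd (w ++ [x])) := by
        have h7 := h3 _ hk (rr (ge x))
        rw [mul_inv_eq_iff_eq_mul] at h7
        have e2 : Pres.wd [x] = ge x := by simp [Pres.wd]
        rw [Pres.wd_cons, Pres.wd_append, map_mul, map_mul, hw, e2, h7]
      have e3 : ψ (Pres.wd (x :: w)) = ψ (Pres.wd (w ++ [x])) := congrArg Subtype.val e1
      rw [← ψ_wd _ hq', ← ψ_wd _ hq', e3]
      exact Nat.beq_refl _
    rcases outer h hkk hc with h4 | h4
    · have h5 := hno .d [.t] (by rw [← h6 _ h4]; simp [Pres.wd])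
      exact absurd h5 (by decide +kernel)
    · have h5 := hno .b [.t, .y] (by rw [← h6 _ h4]; simp [Pres.wd])
      exact absurd h5 (by decide +kernel)
  · have h2 : SB ≤ K := Subgroup.subgroupOf_eq_top.1 h1
    exact h2 (Subgroup.mem_subgroupOf.2 (mem_y h))

end Cfsg.Agent.CoThreeStd.SuzP.SylB
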