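import Cfsg.Agent.Lib.PermNet

/-!
# Permutations of `0, …, n - 1` given by tables (big numbers, 16 bits per entry)

Kernel-fast evaluation of words of tables, and normal forms in a polycyclic 2-group. (S1750, pattern `Suz:2`.)
-/

set_option autoImplicit false

namespace Cfsg.Agent.CoThreeStd.SuzP.Tab

open Cfsg.Agent.Lib.PermNet (seq seq_eq seqB seqB_eq tb tb_eq)

/-- table look-up -/
noncomputable def lk (T p : ℕ) : ℕ := Nat.land (Nat.shiftRight T (Nat.mul 16 p)) 65535

/-- `f i` for all `i < n` -/
noncomputable def allB (n : ℕ) (f : ℕ → Bool) : Bool :=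
  Nat.rec (motive := fun _ => Bool) true (fun i ih => and (f i) ih) n

theorem allB_spec {n : ℕ} {f : ℕ → Bool} (h : allB n f = true) : ∀ i < n, f i = true := by
  induction n with
  | zero => intro i hi; omega
  | succ n ih =>
    have h' : and (f n) (allB n f) = true := h
    rw [Bool.and_eq_true] at h'
    intro i hi
    rcases Nat.lt_succ_iff_lt_or_eq.1 hi with hi | rfl
    · exact ih h'.2 i hi
    · exact h'.1

/-- `f x` for all `x` in the list -/
noncomputable def allL {α : Type*} (f : α → Bool) (l : List α) : Bool :=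
  List.rec (motive := fun _ => Bool) true (fun a _ ih => and (f a) ih) l

theorem allL_spec {α : Type*} {f : α → Bool} {l : List α} (h : allL f l = true) : ∀ x ∈ l, f x = true := by
  induction l with
  | nil => intro x hx; exact absurd hx (by simp)
  | cons a l ih =>
    have h' : and (f a) (allL f l) = true := h
    rw [Bool.and_eq_true] at h'
    intro x hx
    rcases List.mem_cons.1 hx with rfl | hx
    · exact h'.1
    · exact ih h'.2 x hx

theorem allL_of {α : Type*} {f : α → Bool} {l : List α} (h : ∀ x ∈ l, f x = true) : allL f l = true := by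
  induction l with
  | nil => rfl
  | cons a l ih =>
    show and (f a) (allL f l) = true
    rw [h a List.mem_cons_self, ih fun x hx => h x (List.mem_cons_of_mem _ hx)]
    rfl

/-- `T` maps `{0, …, n - 1}` to itself and `T'` is its inverse there. -/
noncomputable def okT (n T T' : ℕ) : Bool :=
  allB n fun p => seqB (lk T p) fun q => and (Nat.blt q n) (Nat.beq (lk T' q) p)

theorem okT_spec {n T T' : ℕ} (h : okT n T T' = true) {p : ℕ} (hp : p < n) :
    lk T p < n ∧ lk T' (lk T p) = p := by
  have h1 := allB_spec h p hp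
  rw [seqB_eq, Bool.and_eq_true] at h1
  exact ⟨by simpa using h1.1, Nat.eq_of_beq_eq_true h1.2⟩

/-- the function of a table -/
noncomputable def tf (n T p : ℕ) : ℕ := if p < n then lk T p else p

theorem tf_tf {n T T' : ℕ} (h : okT n T T' = true) (p : ℕ) : tf n T' (tf n T p) = p := by
  unfold tf
  by_cases hp : p < n
  · obtain ⟨h1, h2⟩ := okT_spec h hp
    rw [if_pos hp, if_pos h1, h2]
  · rw [if_neg hp, if_neg hp]

/-- the permutation of a pair of mutually inverse tables -/
noncomputable def perm (n T T' : ℕ) (h : okT n T T' = true) (h' : okT n T' T = true) : Equiv.Perm ℕ :=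
  ⟨tf n T, tf n T', tf_tf h, tf_tf h'⟩

theorem perm_apply {n T T' : ℕ} (h : okT n T T' = true) (h' : okT n T' T = true) {p : ℕ} (hp : p < n) :
    perm n T T' h h' p = lk T p := if_pos hp

theorem perm_apply_of_le {n T T' : ℕ} (h : okT n T T' = true) (h' : okT n T' T = true) {p : ℕ}
    (hp : n ≤ p) : perm n T T' h h' p = p := if_neg (by omega)

/-- image of a point under a word; the last letter acts first -/
noncomputable def pt {α : Type*} (t : α → ℕ) (w : List α) (p : ℕ) : ℕ :=
  List.rec (motive := fun _ => ℕ) p (fun x _ ih => seq ih (lk (t x))) w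

theorem pt_nil {α : Type*} (t : α → ℕ) (p : ℕ) : pt t [] p = p := rfl

theorem pt_cons {α : Type*} (t : α → ℕ) (x : α) (w : List α) (p : ℕ) :
    pt t (x :: w) p = lk (t x) (pt t w p) := by
  show seq (pt t w p) (lk (t x)) = _
  rw [seq_eq]

/-- `f` is given by the tables `t` below `n` and is the identity from `n` on. -/
structure Good {α : Type*} (n : ℕ) (t : α → ℕ) (f : α → Equiv.Perm ℕ) : Prop where
  lt : ∀ x p, p < n → f x p < n
  eq : ∀ x p, p < n → f x p = lk (t x) p
  fix : ∀ x p, n ≤ p → f x p = p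

namespace Good

variable {α : Type*} {n : ℕ} {t : α → ℕ} {f : α → Equiv.Perm ℕ}

theorem word_lt (h : Good n t f) (w : List α) {p : ℕ} (hp : p < n) : (w.map f).prod p < n := by
  induction w with
  | nil => exact hp
  | cons x w ih =>
    rw [List.map_cons, List.prod_cons, Equiv.Perm.mul_apply]
    exact h.lt _ _ ih

theorem word_fix (h : Good n t f) (w : List α) {p : ℕ} (hp : n ≤ p) : (w.map f).prod p = p := by
  induction w with
  | nil => rfl
  | cons x w ih =>
    rw [List.map_cons, List.prod_cons, Equiv.Perm.mul_apply, ih, h.fix _ _ hp]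

theorem word (h : Good n t f) (w : List α) {p : ℕ} (hp : p < n) : (w.map f).prod p = pt t w p := by
  induction w with
  | nil => rfl
  | cons x w ih =>
    rw [List.map_cons, List.prod_cons, Equiv.Perm.mul_apply, h.eq _ _ (h.word_lt w hp), ih, pt_cons]

/-- the word acts trivially -/
theorem word_eq_one (h : Good n t f) {w : List α} (hw : allB n (fun p => Nat.beq (pt t w p) p) = true) :
    (w.map f).prod = 1 := by
  ext p
  rcases Nat.lt_or_ge p n with hp | hp
  · rw [h.word w hp]
    exact Nat.eq_of_beq_eq_true (allB_spec hw p hp)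
  · rw [h.word_fix w hp]; rfl

end Good

/-! ### Normal forms -/

/-- the bit `0` -/
noncomputable def ifb (a : ℕ) (u v : ℕ) : ℕ := Bool.rec v u (tb a 0)

theorem ifb_eq (a u v : ℕ) : ifb a u v = if a.testBit 0 = true then u else v := by
  unfold ifb
  rw [tb_eq]
  cases a.testBit 0 <;> rfl

/-- image of a point under `T₀ ^ a₀ T₁ ^ a₁ ⋯` (the last table acts first) -/
noncomputable def nf (Ts : List ℕ) : ℕ → ℕ → ℕ :=
  List.rec (motive := fun _ => ℕ → ℕ → ℕ) (fun _ p => p)
    (fun T _ ih a p => seq (Nat.shiftRight a 1) fun a' => seq (ih a' p) fun q => ifb a (lk T q) q) Ts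

theorem nf_nil (a p : ℕ) : nf [] a p = p := rfl

theorem nf_cons (T : ℕ) (Ts : List ℕ) (a p : ℕ) :
    nf (T :: Ts) a p = if a.testBit 0 = true then lk T (nf Ts (a >>> 1) p) else nf Ts (a >>> 1) p := by
  show seq (Nat.shiftRight a 1) (fun a' => seq (nf Ts a' p) fun q => ifb a (lk T q) q) = _
  rw [seq_eq, seq_eq, ifb_eq]
  rfl

/-- the product `x₀ ^ a₀ x₁ ^ a₁ ⋯` -/
def Xl {K : Type*} [Monoid K] : List K → ℕ → K
  | [], _ => 1
  | x :: xs, a => (if a.testBit 0 = true then x else 1) * Xl xs (a >>> 1)

theorem Xl_nil {K : Type*} [Monoid K] (a : ℕ) : Xl ([] : List K) a = 1 := rfl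

theorem Xl_cons {K : Type*} [Monoid K] (x : K) (xs : List K) (a : ℕ) :
    Xl (x :: xs) a = (if a.testBit 0 = true then x else 1) * Xl xs (a >>> 1) := rfl

theorem Xl_map {K M : Type*} [Monoid K] [Monoid M] (f : K →* M) (l : List K) (a : ℕ) :
    f (Xl l a) = Xl (l.map f) a := by
  induction l generalizing a with
  | nil => exact map_one f
  | cons x xs ih =>
    rw [List.map_cons, Xl_cons, Xl_cons, map_mul, ih]
    split_ifs
    · rfl
    · rw [map_one]

theorem Xl_zero {K : Type*} [Monoid K] (l : List K) : Xl l 0 = 1 := by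
  induction l with
  | nil => rfl
  | cons x xs ih =>
    rw [Xl_cons, Nat.zero_testBit, Nat.zero_shiftRight, ih]
    simp

theorem Xl_cons_bit {K : Type*} [Monoid K] (x : K) (xs : List K) (a : ℕ) :
    Xl (x :: xs) (2 * a) = Xl xs a ∧ Xl (x :: xs) (2 * a + 1) = x * Xl xs a := by
  constructor
  · rw [Xl_cons]
    have h1 : (2 * a).testBit 0 = false := by simp
    have h2 : (2 * a) >>> 1 = a := by rw [Nat.shiftRight_one]; omega
    rw [h1, h2]; simp
  · rw [Xl_cons]
    have h1 : (2 * a + 1).testBit 0 = true := by simp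
    have h2 : (2 * a + 1) >>> 1 = a := by
      rw [Nat.shiftRight_one]; omega
    rw [h1, h2]; simp

theorem Xl_mem {K : Type*} [Group K] {H : Subgroup K} {l : List K} (h : ∀ x ∈ l, x ∈ H) (a : ℕ) :
    Xl l a ∈ H := by
  induction l generalizing a with
  | nil => exact H.one_mem
  | cons x xs ih =>
    rw [Xl_cons]
    refine H.mul_mem ?_ (ih (fun y hy => h y (List.mem_cons_of_mem _ hy)) _)
    split_ifs
    · exact h x List.mem_cons_self
    · exact H.one_mem

/-- A polycyclic sequence of a `2`-group (each term normalises the group generated by the later ones). -/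
def PC {K : Type*} [Group K] : List K → Prop
  | [] => True
  | x :: xs => (∃ a, x * x = Xl xs a) ∧ (∀ y ∈ xs, ∃ a, x * y = Xl xs a * x) ∧ PC xs

theorem exists_nf {K : Type*} [Group K] [Finite K] : ∀ (l : List K), PC l →
    ∀ g ∈ Subgroup.closure {x | x ∈ l}, ∃ a < 2 ^ l.length, g = Xl l a
  | [], _, g, hg => by
    refine ⟨0, by simp, ?_⟩
    have h1 : {x : K | x ∈ ([] : List K)} = ∅ := by ext; simp
    rw [h1, Subgroup.closure_empty, Subgroup.mem_bot] at hg
    rw [hg]; rfl
  | x :: xs, hl, g, hg => by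
    obtain ⟨⟨s, hs⟩, hc, hxs⟩ := hl
    have ih := exists_nf xs hxs
    set A := Subgroup.closure {x | x ∈ xs} with hA
    have hmA : ∀ y ∈ xs, y ∈ A := fun y hy => Subgroup.subset_closure hy
    have hsA : x * x ∈ A := by rw [hs]; exact Xl_mem hmA s
    have hn1 : ∀ a ∈ A, x * a * x⁻¹ ∈ A := by
      intro a ha
      induction ha using Subgroup.closure_induction with
      | mem y hy =>
        obtain ⟨v, hv⟩ := hc y hy
        rw [hv, mul_inv_cancel_right]
        exact Xl_mem hmA v
      | one => rw [mul_one, mul_inv_cancel]; exact A.one_mem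
      | mul a b _ _ ha hb =>
        have e : x * (a * b) * x⁻¹ = (x * a * x⁻¹) * (x * b * x⁻¹) := by group
        rw [e]; exact A.mul_mem ha hb
      | inv a _ ha =>
        have e : x * a⁻¹ * x⁻¹ = (x * a * x⁻¹)⁻¹ := by group
        rw [e]; exact A.inv_mem ha
    have hn2 : ∀ a ∈ A, x⁻¹ * a * x ∈ A := by
      intro a ha
      have h1 := hn1 a ha
      have e : x⁻¹ * a * x = (x * x)⁻¹ * (x * a * x⁻¹) * (x * x) := by group
      rw [e]
      exact A.mul_mem (A.mul_mem (A.inv_mem hsA) h1) hsA
    have key : g ∈ A ∨ x⁻¹ * g ∈ A := by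
      induction hg using Subgroup.closure_induction_left with
      | one => exact Or.inl A.one_mem
      | mul_left y hy b _ hb =>
        rcases List.mem_cons.1 hy with rfl | hy
        · rcases hb with hb | hb
          · right; rw [inv_mul_cancel_left]; exact hb
          · left
            have e : y * b = (y * y) * (y⁻¹ * b) := by group
            rw [e]; exact A.mul_mem hsA hb
        · rcases hb with hb | hb
          · left; exact A.mul_mem (hmA y hy) hb
          · right
            have e : x⁻¹ * (y * b) = (x⁻¹ * y * x) * (x⁻¹ * b) := by group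
            rw [e]; exact A.mul_mem (hn2 y (hmA y hy)) hb
      | inv_mul_cancel y hy b _ hb =>
        rcases List.mem_cons.1 hy with rfl | hy
        · rcases hb with hb | hb
          · right
            have e : y⁻¹ * (y⁻¹ * b) = (y * y)⁻¹ * b := by group
            rw [e]; exact A.mul_mem (A.inv_mem hsA) hb
          · left; exact hb
        · rcases hb with hb | hb
          · left; exact A.mul_mem (A.inv_mem (hmA y hy)) hb
          · right
            have e : x⁻¹ * (y⁻¹ * b) = (x⁻¹ * y * x)⁻¹ * (x⁻¹ * b) := by group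
            rw [e]; exact A.mul_mem (A.inv_mem (hn2 y (hmA y hy))) hb
    rw [List.length_cons, pow_succ]
    rcases key with h | h
    · obtain ⟨a, ha, e⟩ := ih g h
      exact ⟨2 * a, by omega, by rw [(Xl_cons_bit x xs a).1, e]⟩
    · obtain ⟨a, ha, e⟩ := ih _ h
      refine ⟨2 * a + 1, by omega, ?_⟩
      rw [(Xl_cons_bit x xs a).2, ← e, mul_inv_cancel_left]

theorem Xl_inj {K : Type*} [Group K] [Finite K] : ∀ (l : List K), PC l →
    (∀ a < 2 ^ l.length, Xl l a = 1 → a = 0) →
    ∀ a < 2 ^ l.length, ∀ b < 2 ^ l.length, Xl l a = Xl l b → a = b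
  | [], _, _, a, ha, b, hb, _ => by simp at ha hb; omega
  | x :: xs, hl, h1, a, ha, b, hb, hab => by
    have hxs : PC xs := hl.2.2
    rw [List.length_cons, pow_succ] at ha hb h1
    have h1' : ∀ a < 2 ^ xs.length, Xl xs a = 1 → a = 0 := by
      intro a ha h
      have := h1 (2 * a) (by omega) (by rw [(Xl_cons_bit x xs a).1, h])
      omega
    have ih := Xl_inj xs hxs h1'
    have hmA : ∀ y ∈ xs, y ∈ Subgroup.closure {x | x ∈ xs} := fun y hy => Subgroup.subset_closure hy
    have hno : ∀ c d, x * Xl xs c = Xl xs d → False := by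
      intro c d h
      have h2 : x * (Xl xs c * (Xl xs d)⁻¹) = 1 := by rw [← mul_assoc, h, mul_inv_cancel]
      obtain ⟨e, he, h3⟩ := exists_nf xs hxs (Xl xs c * (Xl xs d)⁻¹)
        (Subgroup.mul_mem _ (Xl_mem hmA c) (Subgroup.inv_mem _ (Xl_mem hmA d)))
      rw [h3] at h2
      have := h1 (2 * e + 1) (by omega) (by rw [(Xl_cons_bit x xs e).2, h2])
      omega
    obtain ⟨c, hc | hc⟩ := Nat.even_or_odd' a <;> obtain ⟨d, hd | hd⟩ := Nat.even_or_odd' b <;>
      subst hc <;> subst hd
    · rw [(Xl_cons_bit x xs c).1, (Xl_cons_bit x xs d).1] at hab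
      rw [ih c (by omega) d (by omega) hab]
    · rw [(Xl_cons_bit x xs c).1, (Xl_cons_bit x xs d).2] at hab
      exact (hno d c hab.symm).elim
    · rw [(Xl_cons_bit x xs c).2, (Xl_cons_bit x xs d).1] at hab
      exact (hno c d hab).elim
    · rw [(Xl_cons_bit x xs c).2, (Xl_cons_bit x xs d).2] at hab
      rw [ih c (by omega) d (by omega) (mul_left_cancel hab)]

/-- The order of the group. -/
theorem card_closure {K : Type*} [Group K] [Finite K] {l : List K} (hl : PC l)
    (h1 : ∀ a < 2 ^ l.length, Xl l a = 1 → a = 0) :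
    Nat.card (Subgroup.closure {x | x ∈ l}) = 2 ^ l.length := by
  have hm : ∀ a, Xl l a ∈ Subgroup.closure {x | x ∈ l} := fun a =>
    Xl_mem (fun y hy => Subgroup.subset_closure hy) a
  let f : Fin (2 ^ l.length) → Subgroup.closure {x | x ∈ l} := fun a => ⟨Xl l a, hm a⟩
  have hf : Function.Bijective f := by
    constructor
    · intro a b h
      exact Fin.ext (Xl_inj l hl h1 a a.2 b b.2 (congrArg Subtype.val h))
    · rintro ⟨g, hg⟩
      obtain ⟨a, ha, e⟩ := exists_nf l hl g hg
      exact ⟨⟨a, ha⟩, Subtype.ext e.symm⟩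
  rw [← Nat.card_eq_of_bijective f hf, Nat.card_eq_fintype_card, Fintype.card_fin]

/-- The normal form acts as computed. -/
theorem nf_spec {n : ℕ} (Ts : List ℕ) (l : List (Equiv.Perm ℕ))
    (h : List.Forall₂ (fun T f => (∀ p < n, f p < n) ∧ ∀ p < n, f p = lk T p) Ts l)
    (a : ℕ) {p : ℕ} (hp : p < n) : Xl l a p < n ∧ Xl l a p = nf Ts a p := by
  induction h generalizing a with
  | nil => exact ⟨hp, rfl⟩
  | cons h1 _ ih =>
    obtain ⟨i1, i2⟩ := ih (a >>> 1)
    rw [Xl_cons, nf_cons, Equiv.Perm.mul_apply]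
    split_ifs
    · refine ⟨h1.1 _ i1, ?_⟩
      rw [h1.2 _ i1, i2]
    · exact ⟨i1, i2⟩

end Cfsg.Agent.CoThreeStd.SuzP.Tab
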