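import Cfsg.Agent.CoThreeStd.SuzP.Outer

/-!
# The image of `P` in the permutations is `Suz:2`

`P` has the triple cover `3.Suz:2` as a quotient, so the bound is `|P| ≤ 3 |Suz:2|` (or the same for a quotient `P'` of `P` through
which `ψ` factors). Everything is done in the image `PB = ψ.range`, which contains the Suzuki group with index two.
`HB : Finite PB ∧ SB.index ≤ 6` is the only input (`hb_of`). (helper781)
-/

set_option autoImplicit false
set_option maxRecDepth 100000
set_option Elab.async false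

namespace Cfsg.Agent.CoThreeStd.SuzP.Three

open Cfsg.Spor Cfsg.Agent.CoThreeStd.SuzP.Data Cfsg.Agent.CoThreeStd.SuzP.Tab
  Cfsg.Agent.CoThreeStd.SuzP.Pres Cfsg.Agent.CoThreeStd.SuzP.Model Cfsg.Agent.CoThreeStd.SuzP.Link
  Cfsg.Agent.CoThreeStd.SuzP.Order Cfsg.Agent.CoThreeStd.SuzP.Syl

open Cfsg.Agent.SporadicRecognition.SuzPhi (φ)
open Cfsg.Agent.SporadicRecognition.SuzOrder (card_Suz eq_one_of_fix φ_injective simple finiteSuz)

/-- a simple subgroup of large order and small index is normal -/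
theorem normal_of_index {G : Type*} [Group G] [Finite G] (H : Subgroup G) [IsSimpleGroup H] (hk : H.index ≤ 6)
    (hH : 720 < Nat.card H) : H.Normal := by
  classical
  have h1 : H.normalCore.index ≤ 720 := by
    rw [Subgroup.normalCore_eq_ker, Subgroup.index_ker]
    calc Nat.card (MulAction.toPermHom G (G ⧸ H)).range ≤ Nat.card (Equiv.Perm (G ⧸ H)) :=
          Nat.card_le_card_of_injective _ Subtype.val_injective
      _ = (Nat.card (G ⧸ H)).factorial := Nat.card_perm
      _ ≤ Nat.factorial 6 := Nat.factorial_le hk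
      _ = 720 := by decide
  have h2 : H.normalCore ≤ H := Subgroup.normalCore_le H
  rcases (inferInstance : (H.normalCore.subgroupOf H).Normal).eq_bot_or_eq_top with h3 | h3
  · exfalso
    have h4 : H.normalCore = ⊥ := by
      rw [Subgroup.subgroupOf_eq_bot] at h3
      exact (h3.eq_bot_of_le h2)
    rw [h4, Subgroup.index_bot] at h1
    have h5 : Nat.card H ≤ Nat.card G := Subgroup.card_le_card_group H
    omega
  · have h4 : H ≤ H.normalCore := Subgroup.subgroupOf_eq_top.1 h3
    have h5 : H = H.normalCore := le_antisymm h4 h2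
    rw [h5]
    exact Subgroup.normalCore_normal H

/-- the image of `P` -/
noncomputable abbrev PB : Subgroup (Equiv.Perm ℕ) := ψ.range

/-- the Suzuki group in the image -/
noncomputable abbrev SB : Subgroup PB := φ.range.subgroupOf PB

/-- the image is finite and the Suzuki group has index at most six -/
def HB : Prop := Finite PB ∧ SB.index ≤ 6

/-- the isomorphism of the Suzuki group -/
noncomputable def eS : Suz ≃* SB :=
  (φ.ofInjective φ_injective).trans (Subgroup.subgroupOfEquivOfLe range_le).symm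

theorem card_SB : Nat.card SB = 448345497600 := by
  rw [← card_Suz]
  exact (Nat.card_congr eS.toEquiv).symm

theorem simple_SB : IsSimpleGroup SB := by
  have := simple
  have : Nontrivial SB := eS.symm.toEquiv.nontrivial
  exact IsSimpleGroup.isSimpleGroup_of_surjective eS.toMonoidHom eS.surjective

section

variable {P' : Type*} [Group P'] [Finite P'] {ψ' : P' →* Equiv.Perm ℕ}

theorem ker_mul_index (hr : ψ'.range = PB) (hc : Nat.card P' ≤ 2690072985600) : Nat.card ψ'.ker * SB.index ≤ 6 := by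
  have h1 : Nat.card ψ'.ker * Nat.card PB = Nat.card P' := by
    rw [← Subgroup.card_mul_index ψ'.ker, Subgroup.index_ker, hr]
  have h2 := SB.card_mul_index
  rw [card_SB] at h2
  rw [← h1, ← h2] at hc
  have h4 : 448345497600 * (Nat.card ψ'.ker * SB.index) ≤ 448345497600 * 6 := by
    calc 448345497600 * (Nat.card ψ'.ker * SB.index) = Nat.card ψ'.ker * (448345497600 * SB.index) := by ring
      _ ≤ 2690072985600 := hc
      _ = _ := by norm_num
  exact Nat.le_of_mul_le_mul_left h4 (by norm_num)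

theorem hb_of (hr : ψ'.range = PB) (hc : Nat.card P' ≤ 2690072985600) : HB := by
  constructor
  · rw [← hr]
    exact Finite.of_surjective ψ'.rangeRestrict ψ'.rangeRestrict_surjective
  · have h1 : 0 < Nat.card ψ'.ker := Nat.card_pos
    have h2 := ker_mul_index hr hc
    calc SB.index = 1 * SB.index := (one_mul _).symm
      _ ≤ Nat.card ψ'.ker * SB.index := Nat.mul_le_mul_right _ h1
      _ ≤ 6 := h2

end

theorem normal_SB (h : HB) : SB.Normal := by
  have := h.1
  have := simple_SB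
  exact normal_of_index SB (h.2) (by rw [card_SB]; norm_num)

/-- an element with `x ^ m = 1`, `m` prime to 60, lies in the Suzuki group -/
theorem mem_of_pow (h : HB) {x : P} {m : ℕ} (hm : Nat.Coprime m 60) (hx : ψ x ^ m = 1) : ψ x ∈ φ.range := by
  have := h.1
  have := normal_SB h
  let θ : PB →* PB ⧸ SB := QuotientGroup.mk' SB
  let x' : PB := ψ.rangeRestrict x
  have h1 : θ x' ^ m = 1 := by
    rw [← map_pow]
    have : x' ^ m = 1 := Subtype.ext hx
    rw [this, map_one]
  have h2 : θ x' ^ SB.index = 1 := by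
    have : Nat.card (PB ⧸ SB) = SB.index := rfl
    rw [← this]
    exact pow_card_eq_one'
  have h3 : Nat.Coprime m SB.index := by
    apply Nat.Coprime.coprime_dvd_right _ hm
    have h4 := h.2
    have h5 : SB.index ≠ 0 := Subgroup.index_ne_zero_of_finite
    interval_cases SB.index <;> first | omega | decide
  have h4 : θ x' = 1 := by
    have h5 : orderOf (θ x') ∣ Nat.gcd m SB.index := Nat.dvd_gcd (orderOf_dvd_of_pow_eq_one h1) (orderOf_dvd_of_pow_eq_one h2)
    rw [h3, Nat.dvd_one, orderOf_eq_one_iff] at h5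
    exact h5
  have h5 : x' ∈ SB := (QuotientGroup.eq_one_iff _).1 h4
  exact Subgroup.mem_subgroupOf.1 h5

/-- the power of a word -/
def pwl (w : List Lt) (m : ℕ) : List Lt := (List.replicate m w).flatten

theorem wd_pwl (w : List Lt) (m : ℕ) : Pres.wd (pwl w m) = Pres.wd w ^ m := by
  induction m with
  | zero => rw [pow_zero]; rfl
  | succ m ih =>
    rw [pow_succ', ← ih, pwl, List.replicate_succ, List.flatten_cons, Pres.wd_append]
    rfl

theorem mem_word (h : HB) (w : List Lt) (m : ℕ) (hm : Nat.Coprime m 60) (hc : chk (pwl w m) = true) :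
    ψ (Pres.wd w) ∈ φ.range := by
  apply mem_of_pow h hm
  rw [← map_pow, ← wd_pwl, ψ_wd']
  exact good.word_eq_one hc

/-- a letter that is a product of two such words -/
noncomputable def chkE (u v : List Lt) (x : Lt) : Bool :=
  allB 1782 fun p => Nat.beq (pt tbl (u ++ v) p) (pt tbl [x] p)

theorem mem_letter (h : HB) {u v : List Lt} {m n : ℕ} {x : Lt} (hm : Nat.Coprime m 60) (hn : Nat.Coprime n 60)
    (hu : chk (pwl u m) = true) (hv : chk (pwl v n) = true) (he : chkE u v x = true) : ψ (ge x) ∈ φ.range := by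
  have h1 := mul_mem (mem_word h u m hm hu) (mem_word h v n hn hv)
  rw [← map_mul, ← Pres.wd_append] at h1
  have h2 : ψ (ge x) = ψ (Pres.wd (u ++ v)) := by
    have e : ge x = Pres.wd [x] := by simp [Pres.wd]
    ext p
    rcases Nat.lt_or_ge p 1782 with hp | hp
    · rw [e, ψ_wd _ hp, ψ_wd _ hp]
      exact (Nat.eq_of_beq_eq_true (allB_spec he p hp)).symm
    · rw [e, ψ_wd', ψ_wd', good.word_fix _ hp, good.word_fix _ hp]
  rw [h2]
  exact h1

theorem c1 : chk (pwl [.b, .d, .r] 13) = true := by decide +kernel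
theorem c2 : chk (pwl [.r, .D, .b, .y] 7) = true := by decide +kernel
theorem c3 : chk (pwl [.r, .D, .b] 13) = true := by decide +kernel
theorem c4 : chk (pwl [.b, .d, .r, .p] 13) = true := by decide +kernel
theorem c5 : chk (pwl [.D, .b, .r] 13) = true := by decide +kernel
theorem c6 : chk (pwl [.r, .b, .d, .q] 13) = true := by decide +kernel
theorem c7 : chk (pwl [.q, .D, .b] 13) = true := by decide +kernel
theorem c8 : chk (pwl [.b, .d, .q, .r] 13) = true := by decide +kernel
theorem c9 : chk (pwl [.d, .r, .b] 13) = true := by decide +kernel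
theorem c10 : chk (pwl [.b, .r, .D, .s] 13) = true := by decide +kernel
theorem c11 : chk (pwl [.s, .r, .b, .y] 11) = true := by decide +kernel
theorem c12 : chk (pwl [.y, .b, .r, .s, .b] 11) = true := by decide +kernel
theorem c13 : chk (pwl [.r, .D, .b, .c] 7) = true := by decide +kernel
theorem c14 : chk (pwl [.r, .s, .b, .y] 11) = true := by decide +kernel
theorem c15 : chk (pwl [.y, .b, .s, .r, .d] 13) = true := by decide +kernel

theorem mem_y (h : HB) : ψ (ge .y) ∈ φ.range :=
  mem_letter h (by decide) (by decide) c1 c2 (by decide +kernel)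
theorem mem_p (h : HB) : ψ (ge .p) ∈ φ.range :=
  mem_letter h (by decide) (by decide) c3 c4 (by decide +kernel)
theorem mem_q (h : HB) : ψ (ge .q) ∈ φ.range :=
  mem_letter h (by decide) (by decide) c5 c6 (by decide +kernel)
theorem mem_r (h : HB) : ψ (ge .r) ∈ φ.range :=
  mem_letter h (by decide) (by decide) c7 c8 (by decide +kernel)
theorem mem_s (h : HB) : ψ (ge .s) ∈ φ.range :=
  mem_letter h (by decide) (by decide) c9 c10 (by decide +kernel)
theorem mem_b (h : HB) : ψ (ge .b) ∈ φ.range :=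
  mem_letter h (by decide) (by decide) c11 c12 (by decide +kernel)
theorem mem_c (h : HB) : ψ (ge .c) ∈ φ.range :=
  mem_letter h (by decide) (by decide) c1 c13 (by decide +kernel)
theorem mem_d (h : HB) : ψ (ge .d) ∈ φ.range :=
  mem_letter h (by decide) (by decide) c14 c15 (by decide +kernel)

theorem ge_sq_t : ge .t * ge .t = 1 := by
  have := wd_rel (w := [.t, .t]) (by decide)
  simpa [Pres.wd] using this

theorem ge_D : ge .D = (ge .d)⁻¹ := by
  have := wd_rel (w := [.d, .D]) (by decide)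
  rw [Pres.wd_cons, Pres.wd_cons, Pres.wd_nil, mul_one] at this
  exact eq_inv_of_mul_eq_one_right this

/-- every element of `P` is in the Suzuki group or in its coset -/
theorem dich (h : HB) (x : P) : (ψ x ∈ φ.range ∧ χ x = 1) ∨ ((ψ (ge .t))⁻¹ * ψ x ∈ φ.range ∧ χ x = -1) := by
  have hN := normal_SB h
  have hconj : ∀ z : P, ∀ f ∈ φ.range, ψ z * f * (ψ z)⁻¹ ∈ φ.range := by
    intro z f hf
    have h1 := hN.conj_mem ⟨f, range_le hf⟩ (Subgroup.mem_subgroupOf.2 hf) (ψ.rangeRestrict z)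
    exact Subgroup.mem_subgroupOf.1 h1
  have htt : ψ (ge .t) * ψ (ge .t) = 1 := by rw [← map_mul, ge_sq_t, map_one]
  have hti : (ψ (ge .t))⁻¹ = ψ (ge .t) := inv_eq_of_mul_eq_one_left htt
  have hx : x ∈ Subgroup.closure (Set.range ge) := by rw [closure_ge]; trivial
  have hmul : ∀ a b : P, ((ψ a ∈ φ.range ∧ χ a = 1) ∨ ((ψ (ge .t))⁻¹ * ψ a ∈ φ.range ∧ χ a = -1)) →
      ((ψ b ∈ φ.range ∧ χ b = 1) ∨ ((ψ (ge .t))⁻¹ * ψ b ∈ φ.range ∧ χ b = -1)) →
      ((ψ (a * b) ∈ φ.range ∧ χ (a * b) = 1) ∨ ((ψ (ge .t))⁻¹ * ψ (a * b) ∈ φ.range ∧ χ (a * b) = -1)) := by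
    intro a b ha hb
    rw [map_mul, map_mul]
    rcases ha with ⟨ha, ha'⟩ | ⟨ha, ha'⟩ <;> rcases hb with ⟨hb, hb'⟩ | ⟨hb, hb'⟩ <;> rw [ha', hb']
    · exact Or.inl ⟨mul_mem ha hb, rfl⟩
    · right
      refine ⟨?_, rfl⟩
      have h1 := hconj (ge .t)⁻¹ _ ha
      have h2 := mul_mem h1 hb
      rw [map_inv, inv_inv] at h2
      have e : (ψ (ge .t))⁻¹ * ψ a * ψ (ge .t) * ((ψ (ge .t))⁻¹ * ψ b) = (ψ (ge .t))⁻¹ * (ψ a * ψ b) := by group
      rwa [e] at h2
    · right
      refine ⟨?_, rfl⟩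
      rw [← mul_assoc]
      exact mul_mem ha hb
    · left
      refine ⟨?_, rfl⟩
      have h1 := hconj (ge .t) _ ha
      have h2 := mul_mem h1 hb
      have e : ψ (ge .t) * ((ψ (ge .t))⁻¹ * ψ a) * (ψ (ge .t))⁻¹ * ((ψ (ge .t))⁻¹ * ψ b) =
          ψ a * ((ψ (ge .t))⁻¹ * (ψ (ge .t))⁻¹) * ψ b := by group
      rw [e, hti, htt, mul_one] at h2
      exact h2
  have hin : ∀ y : Lt, y ≠ .t → ψ (ge y) ∈ φ.range ∧ χ (ge y) = 1 := by
    intro y hy
    cases y
    · exact ⟨mem_y h, χ_ge _⟩
    · exact ⟨mem_p h, χ_ge _⟩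
    · exact ⟨mem_q h, χ_ge _⟩
    · exact ⟨mem_r h, χ_ge _⟩
    · exact ⟨mem_s h, χ_ge _⟩
    · exact ⟨mem_b h, χ_ge _⟩
    · exact ⟨mem_c h, χ_ge _⟩
    · exact absurd rfl hy
    · exact ⟨mem_d h, χ_ge _⟩
    · refine ⟨?_, χ_ge _⟩
      rw [ge_D, map_inv]
      exact inv_mem (mem_d h)
  have hgen : ∀ y : Lt, (ψ (ge y) ∈ φ.range ∧ χ (ge y) = 1) ∨ ((ψ (ge .t))⁻¹ * ψ (ge y) ∈ φ.range ∧ χ (ge y) = -1) := by
    intro y
    by_cases hy : y = .t
    · subst hy
      right
      refine ⟨?_, χ_ge _⟩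
      rw [inv_mul_cancel]
      exact one_mem _
    · exact Or.inl (hin y hy)
  induction hx using Subgroup.closure_induction with
  | mem x hx =>
    obtain ⟨y, rfl⟩ := hx
    exact hgen y
  | one => left; exact ⟨by rw [map_one]; exact one_mem _, map_one _⟩
  | mul a b _ _ ha hb => exact hmul a b ha hb
  | inv a _ ha =>
    rcases ha with ⟨h1, h2⟩ | ⟨h1, h2⟩
    · left
      exact ⟨by rw [map_inv]; exact inv_mem h1, by rw [map_inv, h2]; rfl⟩
    · right
      refine ⟨?_, by rw [map_inv, h2]; rfl⟩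
      have h3 := hconj (ge .t)⁻¹ _ (inv_mem h1)
      rw [map_inv, inv_inv] at h3
      have e : (ψ (ge .t))⁻¹ * ((ψ (ge .t))⁻¹ * ψ a)⁻¹ * ψ (ge .t) =
          (ψ (ge .t))⁻¹ * (ψ a)⁻¹ * (ψ (ge .t) * ψ (ge .t)) := by group
      rw [e, htt, mul_one] at h3
      rw [map_inv]
      exact h3

theorem t_not_mem (h : HB) : ψ (ge .t) ∉ φ.range := by
  intro ht
  apply u_not_mem
  rcases dich h (Pres.wd wu) with h1 | h1
  · exact h1.1
  · have h2 := mul_mem ht h1.1
    rwa [mul_inv_cancel_left] at h2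

theorem mem_range_iff (h : HB) (x : P) : ψ x ∈ φ.range ↔ χ x = 1 := by
  constructor
  · intro hx
    rcases dich h x with h1 | h1
    · exact h1.2
    · exfalso
      apply t_not_mem h
      have h2 := mul_mem hx (inv_mem h1.1)
      rw [mul_inv_rev, inv_inv, mul_inv_cancel_left] at h2
      exact h2
  · intro hx
    rcases dich h x with h1 | h1
    · exact h1.1
    · rw [hx] at h1
      exact absurd h1.2 (by decide)

theorem χ_of_ψ (h : HB) {x y : P} (hxy : ψ x = ψ y) : χ x = χ y := by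
  have h1 : χ (y⁻¹ * x) = 1 := by
    apply (mem_range_iff h _).1
    rw [map_mul, map_inv, hxy, inv_mul_cancel]
    exact one_mem _
  rw [map_mul, map_inv, inv_mul_eq_one] at h1
  exact h1.symm

theorem index_SB (h : HB) : SB.index = 2 := by
  rw [Subgroup.index_eq_two_iff]
  refine ⟨ψ.rangeRestrict (ge .t), ?_⟩
  rintro ⟨_, x, rfl⟩
  have h1 : ∀ z : P, (ψ.rangeRestrict z ∈ SB ↔ χ z = 1) := fun z => mem_range_iff h z
  have e : (⟨ψ x, ⟨x, rfl⟩⟩ : PB) = ψ.rangeRestrict x := rfl
  rw [e, ← map_mul, h1, h1, map_mul, χ_ge]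
  rcases Int.units_eq_one_or (χ x) with h2 | h2 <;> rw [h2] <;> decide

theorem card_PB (h : HB) : Nat.card PB = 896690995200 := by
  have h1 := SB.card_mul_index
  rw [card_SB, index_SB h] at h1
  omega

theorem card_ker {P' : Type*} [Group P'] [Finite P'] {ψ' : P' →* Equiv.Perm ℕ} (hr : ψ'.range = PB)
    (hc : Nat.card P' ≤ 2690072985600) : Nat.card ψ'.ker ≤ 3 := by
  have h1 := ker_mul_index hr hc
  rw [index_SB (hb_of hr hc)] at h1
  omega

/-- `14, 98, 1, 1575, 0` is a base. -/
theorem eq_one_of_base (h : HB) {x : P} (hx : ∀ q ∈ [14, 98, 1, 1575, 0], ψ x q = q) : ψ x = 1 := by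
  rcases Int.units_eq_one_or (χ x) with hc | hc
  · obtain ⟨y, hy⟩ := (mem_range_iff h x).2 hc
    have : y = 1 := eq_one_of_fix (x := y) fun q hq => by rw [hy]; exact hx q hq
    rw [← hy, this, map_one]
  · exfalso
    have h1 : χ (Pres.wd wu) = -1 := by rw [χ_wd]; decide
    have h2 : χ (Pres.wd wu * x) = 1 := by rw [map_mul, h1, hc]; rfl
    obtain ⟨y, hy⟩ := (mem_range_iff h _).2 h2
    refine no_four (x := y) (fun q hq => ?_) ?_
    · rw [hy, map_mul, Equiv.Perm.mul_apply, hx q (List.mem_cons_of_mem _ hq), u_fix q hq]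
    · rw [hy, map_mul, Equiv.Perm.mul_apply, hx 14 (by simp), u_14]

theorem eq_of_B5 (h : HB) {x y : PB} (hx : ∀ q ∈ B5, (x : Equiv.Perm ℕ) q = (y : Equiv.Perm ℕ) q) : x = y := by
  obtain ⟨_, a, rfl⟩ := x
  obtain ⟨_, b, rfl⟩ := y
  have h1 : ψ (b⁻¹ * a) = 1 := by
    apply eq_one_of_base h
    intro q hq
    have hq' : q ∈ B5 := by
      simp only [B5, List.mem_cons, List.not_mem_nil, or_false] at hq ⊢
      tauto
    have h2 : ψ a q = ψ b q := hx q hq'
    rw [map_mul, map_inv, Equiv.Perm.mul_apply, h2]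
    exact Equiv.Perm.inv_eq_iff_eq.2 rfl
  rw [map_mul, map_inv, inv_mul_eq_one] at h1
  exact Subtype.ext h1.symm

end Cfsg.Agent.CoThreeStd.SuzP.Three
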